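import Groth.Agent.L21.RR.VeryAmple
import Groth.Agent.L21.RedCurve.GG
import Groth.Agent.L21.CurveDual.Twist
import Groth.Agent.L21.CurveAdj.Powers

/-!
Invertible modules of degree at least two on integral curves with one-dimensional `H¹(O)`.
-/

set_option autoImplicit false
set_option backward.isDefEq.respectTransparency false
set_option linter.style.haveILetI false
universe u

open CategoryTheory CategoryTheory.Limits AlgebraicGeometry TopologicalSpace Opposite IsLocalRing
attribute [local instance] Curv2.resAlgebra

noncomputable section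

namespace Groth.L21.GenusOne.GG

open Groth.L21.RR

variable {X : Scheme.{u}} [IsIntegral X] (k : Type u) [Field k] [X.Over (Spec (CommRingCat.of k))]
  [IsProper (X ↘ Spec (CommRingCat.of k))]

/-- At a closed point some section has non-zero value. -/
theorem exists_surjective_st (hd : topologicalKrullDim X ≤ 1) (hg : h k 1 (Coh.structureModule X) = 1)
    {L : X.Modules} (hL : PicF.IsInvertible L) (hdeg : 2 ≤ Curv2.deg k X L 1) {P : X}
    (hP : IsClosed ({P} : Set X)) :
    ∃ φ : Coh.structureModule X ⟶ L, Function.Surjective (st φ P) := by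
  haveI := isNoetherian_of_proper (X := X) k
  have hLc := Groth.L16.ProperFinite.isCoh_of_isInvertible hL
  have hO := Groth.L16.CohClosedPush.isCoh_structure (X := X)
  obtain ⟨α, hα, hα0⟩ := exists_value hL P
  suffices hs : ∃ φ : Coh.structureModule X ⟶ L, α (st φ P (one X P)) ≠ 0 by
    obtain ⟨φ, hφ⟩ := hs
    obtain ⟨e, he⟩ := exists_frame_stalk hL P
    obtain ⟨a, ha⟩ := he.2 (st φ P (one X P))
    refine ⟨φ, (surjective_st_iff he φ ha).2 ?_⟩
    by_contra hu
    refine hφ ((hα0 _).2 ?_)
    rw [← ha]
    exact Submodule.smul_mem_smul ((IsLocalRing.mem_maximalIdeal _).2 hu) Submodule.mem_top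
  by_contra hno
  push Not at hno
  -- all maps from `O` factor through the kernel of the evaluation
  have hfac : ∀ φ : Coh.structureModule X ⟶ L, φ ≫ toPoint P α = 0 := fun φ => by
    refine Groth.L21.Mod.hom_ext_stalk fun x => ?_
    ext v
    rw [Functor.map_zero]
    change st (φ ≫ toPoint P α) x v = 0
    by_cases hx : x = P
    · subst hx
      haveI := Groth.L00.Sky.isIso_counit (x := x) (resMod x)
      apply (ConcreteCategory.bijective_of_isIso ((Groth.L00.Sky.adj x).counit.app (resMod x))).1
      rw [st_comp, counit_toPoint, map_zero]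
      obtain ⟨r, rfl⟩ := (bijective_smul_one x).2 v
      rw [map_smul, map_smul, hno φ, smul_zero]
    · haveI := subsingleton_stalk_sky (P := P) hP hx
      exact Subsingleton.elim _ _
  obtain ⟨hK, heK⟩ := euler_kernel_toPoint α k hd hP hLc hα
  set M := kernel (toPoint P α)
  let ι : M ⟶ L := kernel.ι (toPoint P α)
  let T : (Coh.structureModule X ⟶ M) →ₗ[k] (Coh.structureModule X ⟶ L) :=
    { toFun := fun f => f ≫ ι
      map_add' := fun a b => Preadditive.add_comp _ _ _ _ _ _
      map_smul' := fun c a => Linear.smul_comp _ _ _ _ _ _ }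
  haveI := finite_HH' k hK 0
  haveI : Module.Finite k (Coh.structureModule X ⟶ M) :=
    Module.Finite.equiv (LinearEquiv.ofBijective _ (Groth.L21.CurveDual.homH0_bijective (k := k) M)).symm
  have hle : h k 0 L ≤ h k 0 M := by
    rw [Groth.L21.CurveDual.h0_eq_finrank_hom, Groth.L21.CurveDual.h0_eq_finrank_hom]
    exact LinearMap.finrank_le_finrank_of_surjective (f := T)
      fun φ => ⟨kernel.lift (toPoint P α) φ (hfac φ), kernel.lift_ι (toPoint P α) φ (hfac φ)⟩
  have hd' : Curv2.euler k X L - Curv2.euler k X (Coh.structureModule X) = Curv2.deg k X L 1 := by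
    rw [Curv2.deg]; push_cast; ring
  have eL := euler_eq k hd L
  have eO := euler_eq k hd (Coh.structureModule X)
  rw [hg] at eO
  have hO0 : 1 ≤ h k 0 (Coh.structureModule X) := by
    haveI := finite_HH' k hO 0
    haveI : Nonempty (⊤ : X.Opens) := ⟨⟨genericPoint X, trivial⟩⟩
    haveI : Nontrivial (Coh.HH X (Coh.structureModule X) 0) :=
      (e0 (Coh.structureModule X)).toEquiv.nontrivial (β := Γ(X, ⊤))
    exact Module.finrank_pos
  by_cases hbig : (h k 1 (Coh.structureModule X) : ℤ) + Module.finrank k (X.residueField P) ≤ Curv2.euler k X L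
  · obtain ⟨s, hs⟩ := exists_section_point (P := P) α k hd hL (𝟙 L) hLc hP hα hbig
    obtain ⟨φ, hφ⟩ := exists_hom_secOf s
    refine hs ((congrArg α ?_).trans (hno φ))
    rw [st_one φ P (W := ⊤) trivial, Groth.L18.Frame.rs_self, ← hφ]
    rfl
  · rw [hg] at hbig
    have hM0 : h k 0 M ≤ h k 0 (Coh.structureModule X) := by
      by_cases hz : ∀ φ : Coh.structureModule X ⟶ M, φ = 0
      · haveI : Subsingleton (Coh.structureModule X ⟶ M) := ⟨fun a b => (hz a).trans (hz b).symm⟩
        rw [Groth.L21.CurveDual.h0_eq_finrank_hom, Module.finrank_zero_of_subsingleton]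
        exact Nat.zero_le _
      · push Not at hz
        obtain ⟨φ, hφ⟩ := hz
        haveI : Mono (φ ≫ ι) := mono_of_ne_zero hL fun h0 => hφ (zero_of_comp_mono _ h0)
        haveI : Mono φ := mono_of_mono φ ι
        have hs := suppClosed_cokernel_of_mono hd hL ι φ hφ
        have hS : (ShortComplex.mk φ (cokernel.π φ) (cokernel.condition φ)).ShortExact :=
          { exact := ShortComplex.exact_cokernel φ }
        have hQ := (Groth.L16.CohKernel.isCoh_kernel_cokernel hO hK φ).2
        have hadd := euler_add k hd hS hO hK hQ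
        rw [euler_eq_h0_of_suppClosed k hs] at hadd
        change Curv2.euler k X M = Curv2.euler k X (Coh.structureModule X) + _ at hadd
        haveI := finite_HH' k hQ 0
        have hzero : h k 0 (cokernel φ) = 0 := by
          push_cast at heK hbig
          omega
        haveI : Subsingleton (Coh.HH X (cokernel φ) 0) := Module.finrank_zero_iff.1 hzero
        have hC := Groth.L21.CurveDual.isZero_of_suppClosed_of_sections hs
        haveI : Epi φ := Preadditive.epi_of_cokernel_zero (hC.eq_of_tgt _ _)
        haveI : IsIso φ := isIso_of_mono_of_epi φ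
        exact (h_congr k (asIso φ) 0).ge
    omega

/-- Degree at least two implies global generation. -/
theorem isGloballyGenerated_of_two_le (hd : topologicalKrullDim X ≤ 1) (hg : h k 1 (Coh.structureModule X) = 1)
    {L : X.Modules} (hL : PicF.IsInvertible L) (hdeg : 2 ≤ Curv2.deg k X L 1) :
    Curv2.IsGloballyGenerated L := by
  haveI := isNoetherian_of_proper (X := X) k
  refine isGloballyGenerated_of_sections fun x => ?_
  obtain ⟨z, hz, hxz⟩ := exists_closed_specialization x
  obtain ⟨φ, hφ⟩ := exists_surjective_st k hd hg hL hdeg hz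
  exact ⟨φ, surjective_st_of_specializes hL hxz hφ⟩

end Groth.L21.GenusOne.GG
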