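import Groth.Agent.L21.GenusOne.Diag
import Groth.Agent.L21.Duality.EllipticPic
import Groth.Agent.L21.RR.PicFieldExt
import Groth.Agent.L21.RR.TwoPoints
import Groth.Agent.L21.RR.BaseChange
import Groth.Agent.L21.OpenSt.Smooth
import Groth.Agent.L05.OmegaRank.Regular
import Groth.Agent.L07.FibreDimSemi
import Groth.Agent.L22.FibreDim

/-!
Addition of points of a genus one curve over a field.
-/

set_option autoImplicit false
set_option backward.isDefEq.respectTransparency false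
set_option backward.isDefEq.respectTransparency.types false
set_option linter.style.haveILetI false
set_option linter.unusedSectionVars false
universe u

open CategoryTheory CategoryTheory.Limits AlgebraicGeometry

noncomputable section

namespace Groth.L21.G1

open Groth.L00.Tensor (tensorAssoc tensorComm tensorIso tensorUnitLeft tensorUnitRight)
open Groth.L21.RR (ptI)

theorem dim_eq_one {L : Type u} [Field L] {Y : Scheme.{u}} (q : Y ⟶ Spec (CommRingCat.of L))
    [LocallyOfFiniteType q] [SmoothOfRelativeDimension 1 q] [IsIntegral Y] :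
    topologicalKrullDim Y = 1 := by
  letI : Y.Over (Spec (CommRingCat.of L)) := ⟨q⟩
  haveI : LocallyOfFiniteType (Y ↘ Spec (CommRingCat.of L)) := ‹LocallyOfFiniteType q›
  obtain ⟨m, hm, -, hU⟩ := Groth.L22.SchemeDim.exists_dim_eq_trdeg L Y
  have h := ((Groth.L21.OpenSt.smoothOfRelativeDimension_iff 1 q).1 inferInstance).2 (genericPoint Y)
  have huniv : ∀ U : Y.Opens, ((U : Set Y) ∩ q ⁻¹' {q (genericPoint Y)}) = (U : Set Y) := fun U =>
    Set.inter_eq_left.2 fun y _ => Subsingleton.elim (α := PrimeSpectrum L) _ _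
  refine le_antisymm ?_ ?_
  · obtain ⟨U, hηU, hU1⟩ := (Groth.L07.FibreDim.fibreDimAt_le_iff q (genericPoint Y) _).1 h.le
    rw [huniv U] at hU1
    rw [hm, ← hU U ⟨_, hηU⟩]
    exact_mod_cast hU1
  · refine le_trans (le_of_eq ?_) ((Groth.L07.FibreDim.fibreDimAt_le_iff q (genericPoint Y) _).2
      ⟨⊤, trivial, ?_⟩)
    · rw [h]; rfl
    · rw [huniv ⊤, hm]; exact (hU ⊤ ⟨genericPoint Y, trivial⟩).le

section Field

variable {L : Type u} [Field L] {Y : Scheme.{u}} [Y.Over (Spec (CommRingCat.of L))]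

theorem exists_section_of_rat {P : Y} (hP : Function.Bijective (Curv2.resMap L Y P)) :
    ∃ s : Spec (CommRingCat.of L) ⟶ Y, s ≫ (Y ↘ Spec (CommRingCat.of L)) = 𝟙 _ ∧ ∀ z, s z = P := by
  haveI : IsIso (CommRingCat.ofHom (Curv2.resMap L Y P)) := (ConcreteCategory.isIso_iff_bijective _).2 hP
  refine ⟨inv (Spec.map (CommRingCat.ofHom (Curv2.resMap L Y P))) ≫ Y.fromSpecResidueField P, ?_, fun z => ?_⟩
  · rw [Category.assoc, ← Groth.L22.FibreDim.SpecMap_resMap, IsIso.inv_hom_id]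
  · rw [Scheme.Hom.comp_apply]
    exact Scheme.fromSpecResidueField_apply _ _

variable [IsIntegral Y] [IsProper (Y ↘ Spec (CommRingCat.of L))] [Smooth (Y ↘ Spec (CommRingCat.of L))]

theorem rat_of_section (s : Spec (CommRingCat.of L) ⟶ Y) (hs : s ≫ (Y ↘ Spec (CommRingCat.of L)) = 𝟙 _) :
    ∃ hP : IsClosed ({s (IsLocalRing.closedPoint L)} : Set Y),
      Function.Bijective (Curv2.resMap L Y (s (IsLocalRing.closedPoint L))) ∧
      Nonempty (ClSub.idealMod s.ker ≅ ptI (s (IsLocalRing.closedPoint L)) hP) := by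
  haveI : IsClosedImmersion s := isClosedImmersion_of_comp_eq_id _ _ hs
  have hall : ∀ q : Spec (CommRingCat.of L), s q = s (IsLocalRing.closedPoint L) :=
    fun q => congrArg _ (Subsingleton.elim (α := PrimeSpectrum L) _ _)
  have hcl : IsClosed ({s (IsLocalRing.closedPoint L)} : Set Y) := by
    have h := s.isClosedEmbedding.isClosed_range
    rwa [Set.range_eq_singleton hall] at h
  refine ⟨hcl, ⟨(Curv2.resMap L Y _).injective, fun v => ?_⟩,
    ⟨eqToIso (by rw [Groth.L21.RR.ker_eq_vanishingIdeal_point L s hcl hall])⟩⟩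
  obtain ⟨a, rfl⟩ := Y.residue_surjective _ v
  obtain ⟨c, hc⟩ := Groth.L21.RR.isRat_of_section L s hs (IsLocalRing.closedPoint L) a
  refine ⟨c, (sub_eq_zero.1 ?_).symm⟩
  have h0 : (Y.residue _).hom (a - Groth.L21.RR.cstAt L _ c) = 0 := (IsLocalRing.residue_eq_zero_iff _).2 hc
  rw [map_sub] at h0
  exact h0

theorem exists_section_rel (hd : topologicalKrullDim Y = 1) (hg : Curv2.genus L Y = 1)
    (a b e : Spec (CommRingCat.of L) ⟶ Y) (ha : a ≫ (Y ↘ Spec (CommRingCat.of L)) = 𝟙 _)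
    (hb : b ≫ (Y ↘ Spec (CommRingCat.of L)) = 𝟙 _) (he : e ≫ (Y ↘ Spec (CommRingCat.of L)) = 𝟙 _) :
    ∃ c : Spec (CommRingCat.of L) ⟶ Y, c ≫ (Y ↘ Spec (CommRingCat.of L)) = 𝟙 _ ∧
      Nonempty (CohB1.tensorMod (ClSub.idealMod a.ker) (ClSub.idealMod b.ker) ≅
        CohB1.tensorMod (ClSub.idealMod c.ker) (ClSub.idealMod e.ker)) := by
  haveI := Groth.L21.RR.isNoetherian_of_proper (X := Y) L
  obtain ⟨hAc, hAr, ⟨iA⟩⟩ := rat_of_section a ha
  obtain ⟨hBc, hBr, ⟨iB⟩⟩ := rat_of_section b hb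
  obtain ⟨hEc, hEr, ⟨iE⟩⟩ := rat_of_section e he
  obtain ⟨hA, hdA⟩ := Groth.L21.Duality.deg_ptI (k := L) hd hAc
  obtain ⟨hB, hdB⟩ := Groth.L21.Duality.deg_ptI (k := L) hd hBc
  obtain ⟨hE, hdE⟩ := Groth.L21.Duality.deg_ptI (k := L) hd hEc
  rw [Groth.L21.RR.finrank_residueField_of_surjective L hAr.2] at hdA
  rw [Groth.L21.RR.finrank_residueField_of_surjective L hBr.2] at hdB
  rw [Groth.L21.RR.finrank_residueField_of_surjective L hEr.2] at hdE
  have hAB := Groth.L18.GenLoc.isInvertible_tensor hA hB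
  obtain ⟨N, hN, ⟨iN⟩⟩ := Groth.L08.Cube.exists_inverse hAB
  have hdAB := Groth.L21.Duality.deg_tensor (k := L) hd hA hB
  have hdN : Curv2.deg L Y N 1 = 2 := by
    have h1 := Groth.L21.Duality.deg_tensor (k := L) hd hAB hN
    rw [Groth.L21.RR.deg_congr L iN, Groth.L22.CurveDeg.deg_structure, hdAB, hdA, hdB] at h1
    push_cast at h1
    omega
  have hEE := Groth.L18.GenLoc.isInvertible_tensor hE hE
  have hdEE := Groth.L21.Duality.deg_tensor (k := L) hd hE hE
  have hM := Groth.L18.GenLoc.isInvertible_tensor hEE hN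
  have hdM := Groth.L21.Duality.deg_tensor (k := L) hd hEE hN
  rw [hdEE, hdE, hdN] at hdM
  obtain ⟨⟨P, hPc, hPr⟩, ⟨iP⟩, -⟩ :=
    Groth.L21.Duality.existsUnique_point (k := L) hd hg hEc hEr hM (by rw [hdM]; norm_num)
  obtain ⟨c, hc, hcP⟩ := exists_section_of_rat (L := L) hPr
  haveI : IsClosedImmersion c := isClosedImmersion_of_comp_eq_id _ _ hc
  let iC : ClSub.idealMod c.ker ≅ ptI P hPc :=
    eqToIso (by rw [Groth.L21.RR.ker_eq_vanishingIdeal_point L c hPc hcP])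
  -- `C ⊗ E ≅ C ⊗ ((E ⊗ E) ⊗ N) ⊗ C ≅ A ⊗ B`
  let A₁ := ptI (a (IsLocalRing.closedPoint L)) hAc
  let B₁ := ptI (b (IsLocalRing.closedPoint L)) hBc
  let E₁ := ptI (e (IsLocalRing.closedPoint L)) hEc
  let C₁ := ptI P hPc
  obtain ⟨D, -, ⟨iD⟩⟩ := Groth.L08.Cube.exists_inverse hE
  -- `E ⊗ N ⊗ C ≅ O`
  let j : CohB1.tensorMod (CohB1.tensorMod E₁ N) C₁ ≅ Coh.structureModule Y :=
    (tensorUnitLeft _).symm ≪≫ tensorIso (iD.symm ≪≫ tensorComm E₁ D) (Iso.refl _) ≪≫
      tensorAssoc D E₁ _ ≪≫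
      tensorIso (Iso.refl D) ((tensorAssoc E₁ (CohB1.tensorMod E₁ N) C₁).symm ≪≫
        tensorIso (tensorAssoc E₁ E₁ N).symm (Iso.refl C₁) ≪≫ iP) ≪≫
      tensorComm D E₁ ≪≫ iD
  refine ⟨c, hc, ⟨tensorIso iA iB ≪≫ (tensorUnitRight _).symm ≪≫ tensorIso (Iso.refl _) j.symm ≪≫ ?_ ≪≫
    tensorIso iC.symm iE.symm⟩⟩
  exact tensorIso (Iso.refl _) (tensorIso (tensorComm E₁ N) (Iso.refl C₁) ≪≫ tensorAssoc N E₁ C₁) ≪≫
    (tensorAssoc _ N _).symm ≪≫ tensorIso iN (Iso.refl _) ≪≫ tensorUnitLeft _ ≪≫ tensorComm E₁ C₁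

theorem section_eq_of_iso (hd : topologicalKrullDim Y = 1) (hg : Curv2.genus L Y = 1)
    (c c' : Spec (CommRingCat.of L) ⟶ Y) (hc : c ≫ (Y ↘ Spec (CommRingCat.of L)) = 𝟙 _)
    (hc' : c' ≫ (Y ↘ Spec (CommRingCat.of L)) = 𝟙 _)
    (h : Nonempty (ClSub.idealMod c.ker ≅ ClSub.idealMod c'.ker)) : c = c' := by
  obtain ⟨hCc, hCr, ⟨iC⟩⟩ := rat_of_section c hc
  obtain ⟨hC'c, hC'r, ⟨iC'⟩⟩ := rat_of_section c' hc'
  obtain ⟨i⟩ := h
  obtain ⟨P, -, huniq⟩ := Groth.L21.Duality.existsUnique_point (k := L) hd hg hCc hCr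
    (Groth.L18.Ample.isInvertible_structureModule Y) (by rw [Groth.L22.CurveDeg.deg_structure])
  have h1 := huniq ⟨_, hCc, hCr⟩ ⟨tensorUnitLeft _⟩
  have h2 := huniq ⟨_, hC'c, hC'r⟩ ⟨tensorUnitLeft _ ≪≫ iC'.symm ≪≫ i.symm ≪≫ iC⟩
  exact Groth.L21.RR.eq_of_section_apply_eq L (Y ↘ Spec (CommRingCat.of L)) c c' hc hc'
    (congrArg Subtype.val (h1.trans h2.symm))

end Field

variable {K : Type u} [Field K] {X : Scheme.{u}} (p : X ⟶ Spec (CommRingCat.of K))
  [IsProper p] [Smooth p] [GeometricallyConnected p] [SmoothOfRelativeDimension 1 p]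
  {L : Type u} [Field L] (u : Spec (CommRingCat.of L) ⟶ Spec (CommRingCat.of K))
  (hg : @Curv2.genus K _ X ⟨p⟩ = 1)

theorem isIntegral_bc : IsIntegral (pullback p u) := by
  haveI : GeometricallyIntegral p := Groth.L21.Disc.geometricallyIntegral_of_smooth p
  exact GeometricallyIntegral.isIntegral_of_subsingleton (pullback.snd p u)

theorem dim_bc : topologicalKrullDim ↥(pullback p u) = 1 := by
  haveI := isIntegral_bc p u
  haveI := smoothOfRelativeDimension_snd (p := p) (u := u)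
  exact dim_eq_one (pullback.snd p u)

include hg in
theorem genus_bc' : @Curv2.genus L _ (pullback p u) ⟨pullback.snd p u⟩ = 1 := by
  letI : Algebra K L := (Spec.preimage u).hom.toAlgebra
  letI : X.Over (Spec (CommRingCat.of K)) := ⟨p⟩
  letI : (pullback p u).Over (Spec (CommRingCat.of L)) := ⟨pullback.snd p u⟩
  haveI : IsProper (X ↘ Spec (CommRingCat.of K)) := ‹IsProper p›
  refine (Groth.L21.RR.genus_bc (k := K) (K := L) (pullback.fst p u) ?_).trans hg
  show IsPullback (pullback.fst p u) (pullback.snd p u) p (Spec.map (Spec.preimage u))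
  rw [Spec.map_preimage]
  exact IsPullback.of_hasPullback p u

variable {p u}

include hg in
/-- The sum of two points exists. -/
theorem exists_rel (a b e : Pt p u) : ∃ c : Pt p u, Rel a b c e := by
  letI : (pullback p u).Over (Spec (CommRingCat.of L)) := ⟨pullback.snd p u⟩
  haveI : IsProper ((pullback p u) ↘ Spec (CommRingCat.of L)) := inferInstanceAs (IsProper (pullback.snd p u))
  haveI : Smooth ((pullback p u) ↘ Spec (CommRingCat.of L)) := inferInstanceAs (Smooth (pullback.snd p u))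
  haveI := isIntegral_bc p u
  obtain ⟨c, hc, ⟨i⟩⟩ := exists_section_rel (L := L) (dim_bc p u) (genus_bc' p u hg) (gr a) (gr b) (gr e)
    (gr_snd a) (gr_snd b) (gr_snd e)
  have hcp : (c ≫ pullback.fst p u) ≫ p = u := by
    rw [Category.assoc, pullback.condition, ← Category.assoc]
    exact (congrArg (· ≫ u) hc).trans (Category.id_comp u)
  let c₁ : Pt p u := ⟨c ≫ pullback.fst p u, hcp⟩
  have hgr : gr c₁ = c := pullback.hom_ext (pullback.lift_fst _ _ _) ((gr_snd c₁).trans hc.symm)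
  obtain ⟨ia⟩ := nonempty_PD_iso a
  obtain ⟨ib⟩ := nonempty_PD_iso b
  obtain ⟨ie⟩ := nonempty_PD_iso e
  obtain ⟨ic⟩ := nonempty_PD_iso c₁
  exact ⟨c₁, ⟨tensorIso ia ib ≪≫ i ≪≫ tensorIso (eqToIso (by rw [hgr]) ≪≫ ic.symm) ie.symm⟩⟩

include hg in
/-- The sum of two points is unique. -/
theorem rel_unique {a b e c c' : Pt p u} (h : Rel a b c e) (h' : Rel a b c' e) : c = c' := by
  letI : (pullback p u).Over (Spec (CommRingCat.of L)) := ⟨pullback.snd p u⟩
  haveI : IsProper ((pullback p u) ↘ Spec (CommRingCat.of L)) := inferInstanceAs (IsProper (pullback.snd p u))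
  haveI : Smooth ((pullback p u) ↘ Spec (CommRingCat.of L)) := inferInstanceAs (Smooth (pullback.snd p u))
  haveI := isIntegral_bc p u
  obtain ⟨i⟩ := h.cancel h'
  obtain ⟨ic⟩ := nonempty_PD_iso c
  obtain ⟨ic'⟩ := nonempty_PD_iso c'
  have he := section_eq_of_iso (L := L) (dim_bc p u) (genus_bc' p u hg) (gr c) (gr c') (gr_snd c) (gr_snd c')
    ⟨ic.symm ≪≫ i ≪≫ ic'⟩
  refine Subtype.ext ?_
  have := congrArg (· ≫ pullback.fst p u) he
  simpa [gr] using this

end Groth.L21.G1
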