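import Groth.Agent.L02.RelCartier.CurveRel
import Groth.Agent.L07.PrinParts.GrBaseChange
import Groth.Agent.L03.InterLen.Main
import Groth.Agent.L19.IdealInvertible
import Groth.Agent.L29.DCoh.PullTensor
import Groth.Agent.L08.Cube.Inverse

/-!
Ideals of points of a smooth curve, as pullbacks of the ideal of the diagonal.
-/

set_option autoImplicit false
set_option backward.isDefEq.respectTransparency false
set_option backward.isDefEq.respectTransparency.types false
set_option linter.style.haveILetI false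
universe u

open CategoryTheory CategoryTheory.Limits AlgebraicGeometry

noncomputable section

namespace Groth.L21.G1

open Groth.L00.Tensor (tensorAssoc tensorComm tensorIso tensorUnitLeft tensorUnitRight)

variable {K : Type u} [Field K] {X : Scheme.{u}} (p : X ⟶ Spec (CommRingCat.of K))

/-- The ideal of the diagonal. -/
abbrev dI : (pullback p p).Modules := ClSub.idealMod (pullback.diagonal p).ker

/-- Points with values in a scheme over the base. -/
abbrev Pt {U : Scheme.{u}} (u : U ⟶ Spec (CommRingCat.of K)) := {τ : U ⟶ X // τ ≫ p = u}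

variable {p} {U U' : Scheme.{u}} {u : U ⟶ Spec (CommRingCat.of K)} {u' : U' ⟶ Spec (CommRingCat.of K)}

/-- Change of the test scheme. -/
def Pt.map (a : Pt p u) (g : U' ⟶ U) (hg : g ≫ u = u') : Pt p u' :=
  ⟨g ≫ a.1, by rw [Category.assoc, a.2, hg]⟩

variable (p) in
/-- Base change of the curve. -/
def bc (g : U' ⟶ U) (hg : g ≫ u = u') : pullback p u' ⟶ pullback p u :=
  pullback.lift (pullback.fst p u') (pullback.snd p u' ≫ g) (by rw [Category.assoc, hg, pullback.condition])

/-- The graph of a point. -/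
def gr (a : Pt p u) : U ⟶ pullback p u := pullback.lift a.1 (𝟙 U) (by rw [a.2, Category.id_comp])

theorem gr_snd (a : Pt p u) : gr a ≫ pullback.snd p u = 𝟙 U := pullback.lift_snd _ _ _

/-- The map comparing with a point. -/
def gm (a : Pt p u) : pullback p u ⟶ pullback p p :=
  pullback.lift (pullback.fst p u) (pullback.snd p u ≫ a.1) (by rw [Category.assoc, a.2, pullback.condition])

theorem bc_gm (a : Pt p u) (g : U' ⟶ U) (hg : g ≫ u = u') : bc p g hg ≫ gm a = gm (a.map g hg) := by
  apply pullback.hom_ext <;> simp [gm, bc, Pt.map]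

theorem isPullback_gm (a : Pt p u) : IsPullback (gr a) a.1 (gm a) (pullback.diagonal p) := by
  have hR : IsPullback (gm a) (pullback.snd p u) (pullback.snd p p) a.1 := by
    refine IsPullback.of_right (h₁₂ := pullback.fst p p) (h₂₂ := p) (v₁₃ := p) ?_ ?_
      (IsPullback.of_hasPullback p p)
    · rw [show gm a ≫ pullback.fst p p = pullback.fst p u from pullback.lift_fst _ _ _, a.2]
      exact IsPullback.of_hasPullback p u
    · exact pullback.lift_snd _ _ _
  refine (IsPullback.of_bot (h₁₁ := a.1) (v₁₁ := gr a) (v₁₂ := pullback.diagonal p) (h₂₁ := gm a) ?_ ?_ hR).flip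
  · rw [gr_snd, pullback.diagonal_snd]
    exact IsPullback.of_vert_isIso ⟨by simp⟩
  · apply pullback.hom_ext <;> simp [gm, gr] <;> exact (Category.id_comp _).symm

/-- The ideal of the graph of a point. -/
abbrev PD (a : Pt p u) : (pullback p u).Modules := (Scheme.Modules.pullback (gm a)).obj (dI p)

variable [IsSeparated p] [SmoothOfRelativeDimension 1 p]

omit [IsSeparated p] in
theorem smoothOfRelativeDimension_snd : SmoothOfRelativeDimension 1 (pullback.snd p u) :=
  (smoothOfRelativeDimension_isStableUnderBaseChange (n := 1)).of_isPullback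
    (IsPullback.of_hasPullback p u) inferInstance

theorem isInvertible_sectionIdeal {σ : U ⟶ pullback p u} (hσ : σ ≫ pullback.snd p u = 𝟙 U) :
    PicF.IsInvertible (ClSub.idealMod σ.ker) := by
  haveI := smoothOfRelativeDimension_snd (p := p) (u := u)
  exact (Groth.Agent.L19.IdealInvertible.isEffCartier_iff _).2
    (Groth.L02.RelCartier.ker_section (pullback.snd p u) σ hσ).1

theorem isInvertible_dI : PicF.IsInvertible (dI p) :=
  isInvertible_sectionIdeal (p := p) (u := p) (pullback.diagonal_snd p)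

theorem isInvertible_PD (a : Pt p u) : PicF.IsInvertible (PD a) :=
  Groth.L18.Ample.isInvertible_pullback _ isInvertible_dI

theorem nonempty_PD_iso (a : Pt p u) : Nonempty (PD a ≅ ClSub.idealMod (gr a).ker) := by
  haveI : IsClosedImmersion (pullback.diagonal p) := IsSeparated.isClosedImmersion_diagonal
  obtain ⟨α, -, hepi, -⟩ := Groth.L07.PrinParts.exists_idealMap (gm a) (pullback.diagonal p).ker (gr a).ker
    (Groth.L17.Thick.ker_of_isPullback (isPullback_gm a))
  haveI := hepi
  haveI := Groth.L03.InterLen.isIso_of_epi_invertible α (isInvertible_PD a) (isInvertible_sectionIdeal (gr_snd a))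
  exact ⟨asIso α⟩

omit [IsSeparated p] [SmoothOfRelativeDimension 1 p] in
theorem nonempty_PD_map (a : Pt p u) (g : U' ⟶ U) (hg : g ≫ u = u') :
    Nonempty ((Scheme.Modules.pullback (bc p g hg)).obj (PD a) ≅ PD (a.map g hg)) :=
  ⟨(Scheme.Modules.pullbackComp _ _).app _ ≪≫ (Scheme.Modules.pullbackCongr (bc_gm a g hg)).app _⟩

/-- Two pairs of points are linearly equivalent. -/
def Rel (a b c d : Pt p u) : Prop :=
  Nonempty (CohB1.tensorMod (PD a) (PD b) ≅ CohB1.tensorMod (PD c) (PD d))

omit [IsSeparated p] [SmoothOfRelativeDimension 1 p] in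
theorem Rel.refl (a b : Pt p u) : Rel a b a b := ⟨Iso.refl _⟩

omit [IsSeparated p] [SmoothOfRelativeDimension 1 p] in
theorem Rel.swap (a b : Pt p u) : Rel a b b a := ⟨tensorComm _ _⟩

omit [IsSeparated p] [SmoothOfRelativeDimension 1 p] in
theorem Rel.comm_left {a b c d : Pt p u} (h : Rel a b c d) : Rel b a c d := ⟨tensorComm _ _ ≪≫ h.some⟩

omit [IsSeparated p] [SmoothOfRelativeDimension 1 p] in
theorem Rel.map {a b c d : Pt p u} (h : Rel a b c d) (g : U' ⟶ U) (hg : g ≫ u = u') :
    Rel (a.map g hg) (b.map g hg) (c.map g hg) (d.map g hg) := by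
  obtain ⟨e⟩ := h
  obtain ⟨ea⟩ := nonempty_PD_map a g hg
  obtain ⟨eb⟩ := nonempty_PD_map b g hg
  obtain ⟨ec⟩ := nonempty_PD_map c g hg
  obtain ⟨ed⟩ := nonempty_PD_map d g hg
  exact ⟨(tensorIso ea eb).symm ≪≫ Groth.L29.DC.PullTensor.pullTensor _ _ _ ≪≫
    (Scheme.Modules.pullback (bc p g hg)).mapIso e ≪≫ (Groth.L29.DC.PullTensor.pullTensor _ _ _).symm ≪≫
    tensorIso ec ed⟩

/-- Linearly equivalent single points. -/
theorem Rel.cancel {a b c c' d : Pt p u} (h : Rel a b c d) (h' : Rel a b c' d) :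
    Nonempty (PD c ≅ PD c') := by
  obtain ⟨e⟩ := h
  obtain ⟨e'⟩ := h'
  obtain ⟨N, -, ⟨i⟩⟩ := Groth.L08.Cube.exists_inverse (isInvertible_PD d)
  exact ⟨(tensorUnitRight _).symm ≪≫ tensorIso (Iso.refl _) i.symm ≪≫ (tensorAssoc _ _ _).symm ≪≫
    tensorIso (e.symm ≪≫ e') (Iso.refl N) ≪≫ tensorAssoc _ _ _ ≪≫ tensorIso (Iso.refl _) i ≪≫
      tensorUnitRight _⟩

end Groth.L21.G1
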