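import Groth.Agent.L21.GenusOne.Law
import Groth.Agent.S7787
import Mathlib.CategoryTheory.Monoidal.Cartesian.Over

/-!
A genus one curve with a rational point is a commutative group scheme.
-/

set_option autoImplicit false
set_option backward.isDefEq.respectTransparency false
set_option backward.isDefEq.respectTransparency.types false
set_option linter.style.haveILetI false
set_option linter.unusedSectionVars false
universe u

open CategoryTheory CategoryTheory.Limits AlgebraicGeometry MonoidalCategory CartesianMonoidalCategory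
open scoped MonObj

noncomputable section

namespace Groth.L21.G1

variable {K : Type u} [Field K] {X : Scheme.{u}} (p : X ⟶ Spec (CommRingCat.of K))
  [IsProper p] [Smooth p] [GeometricallyConnected p] [SmoothOfRelativeDimension 1 p]

theorem Rel.pointwise {U : Scheme.{u}} {u : U ⟶ Spec (CommRingCat.of K)} {a b c d : Pt p u} (h : Rel a b c d)
    (z : U) : Rel (a.map (U.fromSpecResidueField z) rfl) (b.map (U.fromSpecResidueField z) rfl)
      (c.map (U.fromSpecResidueField z) rfl) (d.map (U.fromSpecResidueField z) rfl) :=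
  h.map _ rfl

/-- An addition morphism: unital, commutative, adding points of fields linearly. -/
theorem exists_add_props (hgen : @Curv2.genus K _ X ⟨p⟩ = 1) (e : Pt p (𝟙 (Spec (CommRingCat.of K)))) :
    ∃ m : S2 p ⟶ X, ∃ hm : m ≫ p = s2 p,
      pullback.lift (𝟙 X) (p ≫ e.1) (by rw [Category.assoc, e.2, Category.comp_id, Category.id_comp]) ≫ m = 𝟙 X ∧
      pullback.lift (p ≫ e.1) (𝟙 X) (by rw [Category.assoc, e.2, Category.comp_id, Category.id_comp]) ≫ m = 𝟙 X ∧
      (pullbackSymmetry p p).hom ≫ m = m ∧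
      ∀ {L : Type u} [Field L] {u : Spec (CommRingCat.of L) ⟶ Spec (CommRingCat.of K)} (a b : Pt p u),
        Rel a b ⟨pullback.lift a.1 b.1 (a.2.trans b.2.symm) ≫ m,
          by rw [Category.assoc, hm, ← Category.assoc, pullback.lift_fst, a.2]⟩ (e.map u (Category.comp_id _)) := by
  obtain ⟨m, hm, huniv⟩ := exists_add e hgen
  have hsum : ∀ {L : Type u} [Field L] {u : Spec (CommRingCat.of L) ⟶ Spec (CommRingCat.of K)} (a b : Pt p u),
      Rel a b ⟨pullback.lift a.1 b.1 (a.2.trans b.2.symm) ≫ m,
        by rw [Category.assoc, hm, ← Category.assoc, pullback.lift_fst, a.2]⟩ (e.map u (Category.comp_id _)) := by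
    intro L _ u a b
    obtain ⟨c, hc⟩ := exists_rel (u := u) hgen a b (e.map u (Category.comp_id _))
    have h := huniv a b c fun z => hc.pointwise p z
    exact (show Subtype.mk _ _ = c from Subtype.ext h) ▸ hc
  haveI : GeometricallyIntegral p := Groth.L21.Disc.geometricallyIntegral_of_smooth p
  haveI : IsIntegral X := GeometricallyIntegral.isIntegral_of_subsingleton p
  let idX : Pt p p := ⟨𝟙 X, Category.id_comp p⟩
  let eX : Pt p p := e.map p (Category.comp_id _)
  refine ⟨m, hm, huniv idX eX idX fun z => (Rel.refl idX eX).pointwise p z,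
    huniv eX idX idX fun z => (Rel.swap eX idX).pointwise p z, ?_, hsum⟩
  haveI := isIntegral_S2 (p := p)
  let a : Pt p (s2 p) := ⟨pullback.snd p p, pullback.condition.symm⟩
  let b : Pt p (s2 p) := ⟨pullback.fst p p, rfl⟩
  have h := huniv a b ⟨m, hm⟩ fun z => by
    have h1 := hsum (b.map ((S2 p).fromSpecResidueField z) rfl) (a.map ((S2 p).fromSpecResidueField z) rfl)
    have hc : Pt.map (⟨m, hm⟩ : Pt p (s2 p)) ((S2 p).fromSpecResidueField z) rfl =
        ⟨pullback.lift (b.map ((S2 p).fromSpecResidueField z) rfl).1 (a.map ((S2 p).fromSpecResidueField z) rfl).1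
          ((b.map ((S2 p).fromSpecResidueField z) rfl).2.trans (a.map ((S2 p).fromSpecResidueField z) rfl).2.symm) ≫ m,
          by rw [Category.assoc, hm, ← Category.assoc, pullback.lift_fst,
            (b.map ((S2 p).fromSpecResidueField z) rfl).2]⟩ := by
      refine Subtype.ext ?_
      show (S2 p).fromSpecResidueField z ≫ m = pullback.lift _ _ _ ≫ m
      congr 1
      apply pullback.hom_ext <;> simp [Pt.map, a, b]
    have he : (e.map (s2 p) (Category.comp_id _)).map ((S2 p).fromSpecResidueField z) rfl =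
        e.map ((S2 p).fromSpecResidueField z ≫ s2 p) (Category.comp_id _) :=
      Subtype.ext (Category.assoc _ _ _).symm
    rw [hc, he]
    exact h1.comm_left
  rwa [show pullback.lift a.1 b.1 (a.2.trans b.2.symm) = (pullbackSymmetry p p).hom by
    apply pullback.hom_ext <;> simp [a, b]] at h

/-- A rational point as a point. -/
def toPt (a : 𝟙_ (Over (Spec (CommRingCat.of K))) ⟶ Over.mk p) : Pt p (𝟙 (Spec (CommRingCat.of K))) :=
  ⟨a.left, Over.w a⟩

/-- The group structure adding rational points linearly. -/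
theorem exists_grpObj_sum (hgen : @Curv2.genus K _ X ⟨p⟩ = 1)
    (e : 𝟙_ (Over (Spec (CommRingCat.of K))) ⟶ Over.mk p) :
    ∃ G : GrpObj (Over.mk p), @MonObj.one _ _ _ (Over.mk p) G.toMonObj = e ∧
      @IsCommMonObj _ _ _ _ (Over.mk p) G.toMonObj ∧
      ∀ a b : 𝟙_ (Over (Spec (CommRingCat.of K))) ⟶ Over.mk p,
        letI := G; Rel (toPt p a) (toPt p b) (toPt p (a * b)) (toPt p e) := by
  let e₀ : Pt p (𝟙 (Spec (CommRingCat.of K))) := ⟨e.left, Over.w e⟩
  obtain ⟨m, hm, h1, h2, hcomm, hsum⟩ := exists_add_props p hgen e₀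
  haveI : GeometricallyIntegral p := Groth.L21.Disc.geometricallyIntegral_of_smooth p
  haveI : IsProper (Over.mk p).hom := ‹IsProper p›
  haveI : Flat (Over.mk p).hom := inferInstanceAs (Flat p)
  haveI : LocallyOfFinitePresentation (Over.mk p).hom := inferInstanceAs (LocallyOfFinitePresentation p)
  haveI : GeometricallyIntegral (Over.mk p).hom := ‹GeometricallyIntegral p›
  let mu : Over.mk p ⊗ Over.mk p ⟶ Over.mk p := Over.homMk m (by exact hm)
  have e1 : lift (𝟙 (Over.mk p)) (toUnit (Over.mk p) ≫ e) ≫ mu = 𝟙 (Over.mk p) := Over.OverMorphism.ext h1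
  have e2 : lift (toUnit (Over.mk p) ≫ e) (𝟙 (Over.mk p)) ≫ mu = 𝟙 (Over.mk p) := Over.OverMorphism.ext h2
  obtain ⟨G, hG1, hG2⟩ := Groth.Agent.S7787.result (Over.mk p) e mu e1 e2
  refine ⟨G, hG1, ⟨?_⟩, fun a b => ?_⟩
  · rw [hG2]
    exact Over.OverMorphism.ext hcomm
  · let _ := G
    have h := hsum (toPt p a) (toPt p b)
    have hmul : a * b = lift a b ≫ mu := by rw [Hom.mul_def]; exact congrArg (lift a b ≫ ·) hG2
    have he : e₀.map (𝟙 (Spec (CommRingCat.of K))) (Category.comp_id _) = toPt p e :=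
      Subtype.ext (Category.id_comp _)
    rw [he] at h
    refine (show toPt p (a * b) = _ from Subtype.ext ?_) ▸ h
    show (a * b).left = _
    rw [hmul]
    rfl

/-- The group structure. -/
theorem exists_grpObj (hgen : @Curv2.genus K _ X ⟨p⟩ = 1) (e : 𝟙_ (Over (Spec (CommRingCat.of K))) ⟶ Over.mk p) :
    ∃ G : GrpObj (Over.mk p), @MonObj.one _ _ _ (Over.mk p) G.toMonObj = e ∧
      @IsCommMonObj _ _ _ _ (Over.mk p) G.toMonObj :=
  let ⟨G, h1, h2, _⟩ := exists_grpObj_sum p hgen e
  ⟨G, h1, h2⟩

/-- The section of the base change along the identity. -/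
abbrev idSec : X ⟶ pullback p (𝟙 (Spec (CommRingCat.of K))) :=
  pullback.lift (𝟙 X) p (by rw [Category.id_comp, Category.comp_id])

theorem nonempty_pull_PD (a : Pt p (𝟙 (Spec (CommRingCat.of K)))) :
    Nonempty ((Scheme.Modules.pullback (idSec p)).obj (PD a) ≅ ClSub.idealMod a.1.ker) := by
  haveI : IsIso (idSec p) := by
    refine ⟨pullback.fst _ _, pullback.lift_fst _ _ _, ?_⟩
    apply pullback.hom_ext
    · simp
    · simp [pullback.condition]
  haveI : IsClosedImmersion (gr a) := isClosedImmersion_of_comp_eq_id (pullback.snd p (𝟙 _)) (gr a) (gr_snd a)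
  have sq : IsPullback a.1 (𝟙 (Spec (CommRingCat.of K))) (idSec p) (gr a) := by
    refine IsPullback.of_vert_isIso ⟨?_⟩
    rw [Category.id_comp]
    apply pullback.hom_ext
    · simp [gr]
    · simp [gr, a.2]
  obtain ⟨α, -, -, hiso⟩ := Groth.L07.PrinParts.exists_idealMap (idSec p) (gr a).ker a.1.ker
    (Groth.L17.Thick.ker_of_isPullback sq)
  haveI := hiso (Groth.L07.PrinParts.mono_pullback_idealι _ _)
  obtain ⟨i⟩ := nonempty_PD_iso a
  exact ⟨(Scheme.Modules.pullback (idSec p)).mapIso i ≪≫ asIso α⟩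

end Groth.L21.G1
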