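import Groth.Agent.L21.GenusOne.Field
import Groth.Agent.L08.Cube.ClosedTriv
import Groth.Agent.L18.BirationalNormal
import Groth.Agent.L18.FactorDesc
import Groth.Agent.L18.KerReduced
import Groth.Agent.L25.Extend.Main

/-!
The addition morphism of a genus one curve with a rational point.
-/

set_option autoImplicit false
set_option backward.isDefEq.respectTransparency false
set_option backward.isDefEq.respectTransparency.types false
set_option linter.style.haveILetI false
set_option linter.unusedSectionVars false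
universe u

open CategoryTheory CategoryTheory.Limits AlgebraicGeometry TopologicalSpace

noncomputable section

namespace Groth.L21.G1

open Groth.L00.Tensor (tensorAssoc tensorComm tensorIso tensorUnitLeft tensorUnitRight)

theorem iso_iff_of_inverse {Y : Scheme.{u}} {A B N : Y.Modules}
    (i : CohB1.tensorMod A N ≅ Coh.structureModule Y) :
    Nonempty (CohB1.tensorMod N B ≅ Coh.structureModule Y) ↔ Nonempty (A ≅ B) :=
  ⟨fun ⟨j⟩ => ⟨(tensorUnitRight A).symm ≪≫ tensorIso (Iso.refl A) j.symm ≪≫ (tensorAssoc A N B).symm ≪≫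
      tensorIso i (Iso.refl B) ≪≫ tensorUnitLeft B⟩,
    fun ⟨j⟩ => ⟨tensorIso (Iso.refl N) j.symm ≪≫ tensorComm N A ≪≫ i⟩⟩

theorem triv_iff_of_iso {Y Z : Scheme.{u}} (θ : Z ≅ Y) (M : Y.Modules) :
    Nonempty ((Scheme.Modules.pullback θ.hom).obj M ≅ Coh.structureModule Z) ↔
      Nonempty (M ≅ Coh.structureModule Y) :=
  ⟨fun ⟨j⟩ => ⟨((Scheme.Modules.pullbackId Y).app M).symm ≪≫
      (Scheme.Modules.pullbackCongr θ.inv_hom_id.symm).app M ≪≫
      ((Scheme.Modules.pullbackComp θ.inv θ.hom).app M).symm ≪≫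
      (Scheme.Modules.pullback θ.inv).mapIso j ≪≫ Groth.L29.LocFree.pullbackUnitIso θ.inv⟩,
    fun ⟨j⟩ => ⟨(Scheme.Modules.pullback θ.hom).mapIso j ≪≫ Groth.L29.LocFree.pullbackUnitIso θ.hom⟩⟩

variable {K : Type u} [Field K] {X : Scheme.{u}} (p : X ⟶ Spec (CommRingCat.of K))
  [IsProper p] [Smooth p] [GeometricallyConnected p] [SmoothOfRelativeDimension 1 p]

/-- The square of the curve. -/
abbrev S2 : Scheme.{u} := pullback p p

/-- The structure map of the square. -/
abbrev s2 : S2 p ⟶ Spec (CommRingCat.of K) := pullback.fst p p ≫ p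

/-- The cube of the curve. -/
abbrev T3 : Scheme.{u} := pullback (s2 p) p

/-- The structure map of the cube. -/
abbrev t3 : T3 p ⟶ Spec (CommRingCat.of K) := pullback.fst (s2 p) p ≫ s2 p

/-- The projection to the first two factors. -/
abbrev pr : T3 p ⟶ S2 p := pullback.fst (s2 p) p

def ptA : Pt p (t3 p) := ⟨pr p ≫ pullback.fst p p, by simp [Category.assoc]⟩
def ptB : Pt p (t3 p) := ⟨pr p ≫ pullback.snd p p, by rw [Category.assoc, ← pullback.condition]⟩
def ptC : Pt p (t3 p) := ⟨pullback.snd (s2 p) p, pullback.condition.symm⟩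

variable {p} (e : Pt p (𝟙 (Spec (CommRingCat.of K))))

def ptE : Pt p (t3 p) := e.map (t3 p) (Category.comp_id _)

/-- The sum relation along a morphism to the cube. -/
def RelAt {U : Scheme.{u}} {u : U ⟶ Spec (CommRingCat.of K)} (g : U ⟶ T3 p) (hg : g ≫ t3 p = u) : Prop :=
  Rel ((ptA p).map g hg) ((ptB p).map g hg) ((ptC p).map g hg) ((ptE e).map g hg)

theorem exists_relMod : ∃ M : (pullback p (t3 p)).Modules, PicF.IsInvertible M ∧
    ∀ {U : Scheme.{u}} {u : U ⟶ Spec (CommRingCat.of K)} (g : U ⟶ T3 p) (hg : g ≫ t3 p = u),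
      Nonempty ((Scheme.Modules.pullback (bc p g hg)).obj M ≅ Coh.structureModule _) ↔ RelAt e g hg := by
  obtain ⟨N, hN, ⟨i⟩⟩ := Groth.L08.Cube.exists_inverse
    (Groth.L18.GenLoc.isInvertible_tensor (isInvertible_PD (ptA p)) (isInvertible_PD (ptB p)))
  refine ⟨CohB1.tensorMod N (CohB1.tensorMod (PD (ptC p)) (PD (ptE e))),
    Groth.L18.GenLoc.isInvertible_tensor hN
      (Groth.L18.GenLoc.isInvertible_tensor (isInvertible_PD _) (isInvertible_PD _)), fun {U u} g hg => ?_⟩
  obtain ⟨ea⟩ := nonempty_PD_map (ptA p) g hg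
  obtain ⟨eb⟩ := nonempty_PD_map (ptB p) g hg
  obtain ⟨ec⟩ := nonempty_PD_map (ptC p) g hg
  obtain ⟨ed⟩ := nonempty_PD_map (ptE e) g hg
  let χ := bc p g hg
  let pb := Scheme.Modules.pullback χ
  let i' : CohB1.tensorMod (CohB1.tensorMod (PD ((ptA p).map g hg)) (PD ((ptB p).map g hg))) (pb.obj N) ≅
      Coh.structureModule _ :=
    tensorIso ((tensorIso ea eb).symm ≪≫ Groth.L29.DC.PullTensor.pullTensor χ _ _) (Iso.refl _) ≪≫
      Groth.L29.DC.PullTensor.pullTensor χ _ _ ≪≫ pb.mapIso i ≪≫ Groth.L29.LocFree.pullbackUnitIso χ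
  let j : CohB1.tensorMod (pb.obj N) (CohB1.tensorMod (PD ((ptC p).map g hg)) (PD ((ptE e).map g hg))) ≅
      pb.obj (CohB1.tensorMod N (CohB1.tensorMod (PD (ptC p)) (PD (ptE e)))) :=
    tensorIso (Iso.refl _) ((tensorIso ec ed).symm ≪≫ Groth.L29.DC.PullTensor.pullTensor χ _ _) ≪≫
      Groth.L29.DC.PullTensor.pullTensor χ _ _
  exact ⟨fun ⟨q⟩ => (iso_iff_of_inverse i').1 ⟨j ≪≫ q⟩,
    fun h => (iso_iff_of_inverse i').2 h |>.map fun q => j.symm ≪≫ q⟩

/-- The points of the cube satisfying the sum relation. -/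
def relSet : Set (T3 p) := {w | RelAt e ((T3 p).fromSpecResidueField w) rfl}

theorem isClosed_relSet : IsClosed (relSet e) := by
  obtain ⟨M, hM, hiff⟩ := exists_relMod e
  haveI : GeometricallyIntegral p := Groth.L21.Disc.geometricallyIntegral_of_smooth p
  haveI : IsLocallyNoetherian (T3 p) := LocallyOfFiniteType.isLocallyNoetherian (t3 p)
  haveI : Flat (pullback.snd p (t3 p)) := inferInstance
  haveI : LocallyOfFinitePresentation (pullback.snd p (t3 p)) := inferInstance
  have h := Groth.L08.Cube.isClosed_trivial_fibres (pullback.snd p (t3 p)) M hM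
  refine (congrArg IsClosed (Set.ext fun w => ?_)).mp h
  let θ := pullbackLeftPullbackSndIso p (t3 p) ((T3 p).fromSpecResidueField w)
  have hθ : θ.hom ≫ bc p ((T3 p).fromSpecResidueField w) rfl = (pullback.snd p (t3 p)).fiberι w := by
    apply pullback.hom_ext
    · simp only [Category.assoc, bc, pullback.lift_fst, θ, pullbackLeftPullbackSndIso_hom_fst]
      rfl
    · simp only [Category.assoc, bc, pullback.lift_snd, θ, pullbackLeftPullbackSndIso_hom_snd_assoc]
      exact pullback.condition.symm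
  refine Iff.trans ?_ (hiff ((T3 p).fromSpecResidueField w) rfl)
  refine Iff.trans ?_ (triv_iff_of_iso θ _)
  let k : CohIII.fiberMod (pullback.snd p (t3 p)) M w ≅ (Scheme.Modules.pullback θ.hom).obj
      ((Scheme.Modules.pullback (bc p ((T3 p).fromSpecResidueField w) rfl)).obj M) :=
    (Scheme.Modules.pullbackCongr hθ.symm).app M ≪≫ ((Scheme.Modules.pullbackComp _ _).app M).symm
  exact ⟨fun ⟨q⟩ => ⟨k.symm ≪≫ q⟩, fun ⟨q⟩ => ⟨k ≪≫ q⟩⟩

/-- The relation along a morphism holds at all image points. -/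
theorem mem_relSet {U : Scheme.{u}} {u : U ⟶ Spec (CommRingCat.of K)} {g : U ⟶ T3 p} {hg : g ≫ t3 p = u}
    (h : RelAt e g hg) (z : U) : g z ∈ relSet e := by
  obtain ⟨M, hM, hiff⟩ := exists_relMod e
  let gw := (T3 p).fromSpecResidueField (g z)
  let φ : Spec (U.residueField z) ⟶ Spec ((T3 p).residueField (g z)) := Spec.map (g.residueFieldMap z)
  have hφ : φ ≫ gw = U.fromSpecResidueField z ≫ g := Scheme.Hom.SpecMap_residueFieldMap_fromSpecResidueField g z
  let gz : Spec (U.residueField z) ⟶ T3 p := φ ≫ gw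
  have hz : RelAt e gz (rfl : gz ≫ t3 p = gz ≫ t3 p) := by
    have h1 := h.map (u' := gz ≫ t3 p) (U.fromSpecResidueField z) (by
      show _ = (φ ≫ gw) ≫ t3 p
      rw [hφ, Category.assoc, hg])
    have hmap : ∀ a : Pt p (t3 p), (a.map g hg).map (U.fromSpecResidueField z)
        (show _ = gz ≫ t3 p by show _ = (φ ≫ gw) ≫ t3 p; rw [hφ, Category.assoc, hg]) = a.map gz rfl :=
      fun a => Subtype.ext (by
        show _ ≫ g ≫ a.1 = (φ ≫ gw) ≫ a.1
        rw [hφ, Category.assoc])
    rw [hmap, hmap, hmap, hmap] at h1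
    exact h1
  obtain ⟨q⟩ := (hiff gz rfl).2 hz
  have hφt : φ ≫ (gw ≫ t3 p) = gz ≫ t3 p := (Category.assoc _ _ _).symm
  let χ := bc p φ hφt
  have hχ : χ ≫ bc p gw rfl = bc p gz rfl := by
    apply pullback.hom_ext <;> simp [χ, bc, gz]
  let Mw := (Scheme.Modules.pullback (bc p gw rfl)).obj M
  let q' : Coh.structureModule _ ≅ (Scheme.Modules.pullback χ).obj Mw :=
    q.symm ≪≫ (Scheme.Modules.pullbackCongr hχ.symm).app M ≪≫ ((Scheme.Modules.pullbackComp _ _).app M).symm
  letI : (pullback p (gw ≫ t3 p)).Over (Spec (CommRingCat.of ((T3 p).residueField (g z)))) :=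
    ⟨pullback.snd _ _⟩
  letI : (pullback p (gz ≫ t3 p)).Over (Spec (CommRingCat.of (U.residueField z))) := ⟨pullback.snd _ _⟩
  letI : Algebra ((T3 p).residueField (g z)) (U.residueField z) := (g.residueFieldMap z).hom.toAlgebra
  haveI : IsProper (pullback p (gw ≫ t3 p) ↘ Spec (CommRingCat.of ((T3 p).residueField (g z)))) :=
    inferInstanceAs (IsProper (pullback.snd p (gw ≫ t3 p)))
  haveI := Groth.L21.RR.isNoetherian_of_proper (X := pullback p (gw ≫ t3 p)) ((T3 p).residueField (g z))
  have sq : IsPullback χ (pullback.snd p (gz ≫ t3 p)) (pullback.snd p (gw ≫ t3 p)) φ := by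
    refine IsPullback.of_right (h₁₂ := pullback.fst p (gw ≫ t3 p)) (h₂₂ := gw ≫ t3 p) (v₁₃ := p) ?_ ?_
      (IsPullback.of_hasPullback p (gw ≫ t3 p))
    · rw [show χ ≫ pullback.fst p (gw ≫ t3 p) = pullback.fst p (gz ≫ t3 p) from pullback.lift_fst _ _ _, hφt]
      exact IsPullback.of_hasPullback p (gz ≫ t3 p)
    · exact pullback.lift_snd _ _ _
  obtain ⟨r⟩ := Groth.L21.PicExt.nonempty_iso_of_pullback (k := (T3 p).residueField (g z))
    (K := U.residueField z) χ sq
    (Groth.L21.RR.finite_HH' _ Groth.L16.CohClosedPush.isCoh_structure 0)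
    (Groth.L18.Ample.isInvertible_pullback (bc p gw rfl) hM) q'
  exact (hiff gw rfl).1 ⟨r.symm⟩

variable (hgen : @Curv2.genus K _ X ⟨p⟩ = 1)

theorem isNormalScheme_S2 : Pi1.IsNormalScheme (S2 p) :=
  Groth.L25.Extend.isNormalScheme_of_smooth (s2 p) (Groth.L25.Extend.isNormalScheme_field K)

theorem isIntegral_S2 : IsIntegral (S2 p) := by
  haveI : GeometricallyIntegral p := Groth.L21.Disc.geometricallyIntegral_of_smooth p
  haveI : IsIntegral X := GeometricallyIntegral.isIntegral_of_subsingleton p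
  haveI : IsLocallyNoetherian X := LocallyOfFiniteType.isLocallyNoetherian p
  infer_instance

include hgen in
/-- Over a point of the square there is exactly one point of the relation, with the same residue field. -/
theorem relSet_fibre (s : S2 p) : ∃ w₀ : T3 p, w₀ ∈ relSet e ∧ pr p w₀ = s ∧
    ∀ w ∈ relSet e, pr p w = s → w = w₀ ∧ Function.Surjective ((pr p).residueFieldMap w) := by
  let σ := (S2 p).fromSpecResidueField s
  let us := σ ≫ s2 p
  let a : Pt p us := ⟨σ ≫ pullback.fst p p, by simp [us, Category.assoc]⟩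
  let b : Pt p us := ⟨σ ≫ pullback.snd p p, by rw [Category.assoc, ← pullback.condition]⟩
  obtain ⟨c, hc⟩ := exists_rel (u := us) hgen a b (e.map us (Category.comp_id _))
  let w₀m : Spec ((S2 p).residueField s) ⟶ T3 p := pullback.lift σ c.1 c.2.symm
  have hw₀π : w₀m ≫ pr p = σ := pullback.lift_fst _ _ _
  have hw₀t : w₀m ≫ t3 p = us := by rw [← Category.assoc, hw₀π]
  have hrel : RelAt e w₀m hw₀t := by
    have ha : (ptA p).map w₀m hw₀t = a := Subtype.ext (by
      show w₀m ≫ pr p ≫ _ = _; rw [← Category.assoc, hw₀π])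
    have hb : (ptB p).map w₀m hw₀t = b := Subtype.ext (by
      show w₀m ≫ pr p ≫ _ = _; rw [← Category.assoc, hw₀π])
    have hc' : (ptC p).map w₀m hw₀t = c := Subtype.ext (pullback.lift_snd _ _ _)
    have he : (ptE e).map w₀m hw₀t = e.map us (Category.comp_id _) := Subtype.ext (by
      show w₀m ≫ t3 p ≫ e.1 = us ≫ e.1; rw [← Category.assoc, hw₀t])
    show Rel _ _ _ _
    rw [ha, hb, hc', he]
    exact hc
  let q : Spec ((S2 p).residueField s) := IsLocalRing.closedPoint ((S2 p).residueField s)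
  have hq : ∀ z : Spec ((S2 p).residueField s), z = q := fun z =>
    Subsingleton.elim (α := PrimeSpectrum ((S2 p).residueField s)) _ _
  refine ⟨w₀m q, mem_relSet e hrel q, ?_, fun w hw hws => ?_⟩
  · rw [← Scheme.Hom.comp_apply, hw₀π]
    exact Scheme.fromSpecResidueField_apply _ _
  let gw := (T3 p).fromSpecResidueField w
  let φ : (S2 p).residueField s ⟶ (T3 p).residueField w :=
    (Scheme.residueFieldCongr hws.symm).hom ≫ (pr p).residueFieldMap w
  have hφ : Spec.map φ ≫ σ = gw ≫ pr p := by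
    rw [Spec.map_comp, Category.assoc, Scheme.residueFieldCongr_fromSpecResidueField,
      Scheme.Hom.SpecMap_residueFieldMap_fromSpecResidueField]
  have hu : Spec.map φ ≫ us = gw ≫ t3 p := by
    show Spec.map φ ≫ σ ≫ s2 p = _
    rw [← Category.assoc, hφ, Category.assoc]
  have hc2 := hc.map (u' := gw ≫ t3 p) (Spec.map φ) hu
  have hw' : RelAt e gw rfl := hw
  have ha : a.map (Spec.map φ) hu = (ptA p).map gw rfl := Subtype.ext (by
    show Spec.map φ ≫ σ ≫ _ = gw ≫ pr p ≫ _; rw [← Category.assoc, hφ, Category.assoc])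
  have hb : b.map (Spec.map φ) hu = (ptB p).map gw rfl := Subtype.ext (by
    show Spec.map φ ≫ σ ≫ _ = gw ≫ pr p ≫ _; rw [← Category.assoc, hφ, Category.assoc])
  have he : (e.map us (Category.comp_id _)).map (Spec.map φ) hu = (ptE e).map gw rfl := Subtype.ext (by
    show Spec.map φ ≫ us ≫ e.1 = gw ≫ t3 p ≫ e.1; rw [← Category.assoc, hu, Category.assoc])
  rw [ha, hb, he] at hc2
  have hcc := congrArg Subtype.val (rel_unique hgen hw' hc2)
  have hgw : gw = Spec.map φ ≫ w₀m := by
    apply pullback.hom_ext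
    · rw [Category.assoc, hw₀π, hφ]
    · rw [Category.assoc, show w₀m ≫ pullback.snd (s2 p) p = c.1 from pullback.lift_snd _ _ _]
      exact hcc
  let z : Spec ((T3 p).residueField w) := IsLocalRing.closedPoint ((T3 p).residueField w)
  have hzw : w = w₀m q := by
    rw [← hq (Spec.map φ z), ← Scheme.Hom.comp_apply, ← hgw]
    exact (Scheme.fromSpecResidueField_apply _ _).symm
  refine ⟨hzw, fun v => ?_⟩
  -- the section factors through the residue field of `w`
  obtain ⟨ψ, hψ⟩ : ∃ ψ : (T3 p).residueField w ⟶ (S2 p).residueField s, w₀m = Spec.map ψ ≫ gw := by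
    have h1 := (Scheme.SpecToEquivOfField ((S2 p).residueField s) (T3 p)).left_inv w₀m
    set xf := Scheme.SpecToEquivOfField ((S2 p).residueField s) (T3 p) w₀m with hxf
    have hx : xf.1 = w := hzw.symm
    refine ⟨(Scheme.residueFieldCongr hx.symm).hom ≫ xf.2, ?_⟩
    rw [Spec.map_comp, Category.assoc, Scheme.residueFieldCongr_fromSpecResidueField]
    exact h1.symm
  have hid : ψ ≫ φ = 𝟙 _ := by
    refine Spec.map_injective ((cancel_mono gw).1 ?_)
    rw [Spec.map_comp, Category.assoc, ← hψ, ← hgw, Spec.map_id, Category.id_comp]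
  exact ⟨(Scheme.residueFieldCongr hws.symm).hom (ψ v), congr($(hid) v)⟩

include hgen in
/-- The addition morphism: the sum relation is a graph over the square. -/
theorem exists_add : ∃ m : S2 p ⟶ X, m ≫ p = s2 p ∧
    ∀ {U : Scheme.{u}} [IsReduced U] {u : U ⟶ Spec (CommRingCat.of K)} (a b c : Pt p u),
      (∀ z : U, Rel (a.map (U.fromSpecResidueField z) rfl) (b.map (U.fromSpecResidueField z) rfl)
          (c.map (U.fromSpecResidueField z) rfl) ((e.map u (Category.comp_id _)).map (U.fromSpecResidueField z) rfl)) →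
        pullback.lift a.1 b.1 (a.2.trans b.2.symm) ≫ m = c.1 := by
  let Z : Closeds (T3 p) := ⟨relSet e, isClosed_relSet e⟩
  let I := Scheme.IdealSheafData.vanishingIdeal Z
  haveI : IsReduced I.subscheme := Groth.L18.isReduced_vanishingIdeal_subscheme _
  have hsupp : (I.support : Set (T3 p)) = relSet e :=
    Groth.L18.support_vanishingIdeal Z
  let h : I.subscheme ⟶ S2 p := I.subschemeι ≫ pr p
  haveI : IsProper h := inferInstance
  have hrange : Set.range I.subschemeι = relSet e := I.range_subschemeι.trans hsupp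
  have hmem : ∀ x, I.subschemeι x ∈ relSet e := fun x => hrange.le ⟨x, rfl⟩
  have hinj : Function.Injective h.base := fun x y hxy => by
    obtain ⟨w₀, -, -, hu⟩ := relSet_fibre e hgen (h x)
    exact I.subschemeι.isClosedEmbedding.injective
      ((hu _ (hmem x) (Scheme.Hom.comp_apply _ _ _).symm).1.trans
        (hu _ (hmem y) ((Scheme.Hom.comp_apply _ _ _).symm.trans hxy.symm)).1.symm)
  have hsurj : Function.Surjective h.base := fun s => by
    obtain ⟨w₀, hw₀, hs, -⟩ := relSet_fibre e hgen s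
    obtain ⟨x, rfl⟩ := hrange.ge hw₀
    exact ⟨x, (Scheme.Hom.comp_apply _ _ _).trans hs⟩
  have hres : ∀ x, Function.Surjective (h.residueFieldMap x) := fun x => by
    obtain ⟨w₀, -, -, hu⟩ := relSet_fibre e hgen (h x)
    have h1 := (hu _ (hmem x) (Scheme.Hom.comp_apply _ _ _).symm).2
    have h2 : h.residueFieldMap x = (pr p).residueFieldMap (I.subschemeι x) ≫ I.subschemeι.residueFieldMap x :=
      Scheme.residueFieldMap_comp _ _ _
    rw [h2]
    have h3 : Function.Surjective (I.subschemeι.residueFieldMap x) := fun v => by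
      obtain ⟨v, rfl⟩ := I.subscheme.residue_surjective x v
      obtain ⟨w, rfl⟩ := I.subschemeι.stalkMap_surjective x v
      exact ⟨(T3 p).residue _ w, congr($(Scheme.residue_residueFieldMap I.subschemeι x) w)⟩
    exact h3.comp h1
  haveI := Groth.L18.FactorDesc.universallyInjective_of h hinj hres
  haveI := isIntegral_S2 (p := p)
  haveI : IrreducibleSpace I.subscheme := by
    let E := (Equiv.ofBijective _ ⟨hinj, hsurj⟩).toHomeomorphOfContinuousClosed h.continuous h.isClosedMap
    have hi := (IrreducibleSpace.isIrreducible_univ (S2 p)).image E.symm E.symm.continuous.continuousOn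
    rw [Set.image_univ, E.symm.surjective.range_eq] at hi
    haveI : PreirreducibleSpace I.subscheme := ⟨hi.isPreirreducible⟩
    exact ⟨hi.nonempty.to_type⟩
  haveI : IsIntegral I.subscheme := isIntegral_of_irreducibleSpace_of_isReduced _
  have hgenpt : h (genericPoint I.subscheme) = genericPoint (S2 p) := by
    obtain ⟨x, hx⟩ := hsurj (genericPoint (S2 p))
    have h1 : h (genericPoint I.subscheme) ⤳ genericPoint (S2 p) :=
      hx ▸ ((genericPoint_spec I.subscheme).specializes trivial).map h.continuous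
    exact (h1.antisymm ((genericPoint_spec (S2 p)).specializes trivial)).eq
  haveI : IsIso h := Groth.L18.isIso_of_universallyClosed_birational isNormalScheme_S2 h hgenpt
    ⟨(h.residueFieldMap _).hom.injective, hres _⟩
  refine ⟨inv h ≫ I.subschemeι ≫ pullback.snd (s2 p) p, ?_, fun {U} _ {u} a b c hrel => ?_⟩
  · rw [Category.assoc, Category.assoc, ← pullback.condition, IsIso.inv_comp_eq, Category.assoc]
  let f : U ⟶ S2 p := pullback.lift a.1 b.1 (a.2.trans b.2.symm)
  have hf : f ≫ s2 p = u := by rw [← Category.assoc, pullback.lift_fst, a.2]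
  let g : U ⟶ T3 p := pullback.lift f c.1 (hf.trans c.2.symm)
  have hgπ : g ≫ pr p = f := pullback.lift_fst _ _ _
  have hg : g ≫ t3 p = u := by rw [← Category.assoc, hgπ, hf]
  have hR : ∀ z, RelAt e (U.fromSpecResidueField z ≫ g) (by rw [Category.assoc, hg]) := fun z => by
    have ha : (ptA p).map g hg = a := Subtype.ext (by
      show g ≫ pr p ≫ _ = _; rw [← Category.assoc, hgπ]; exact pullback.lift_fst _ _ _)
    have hb : (ptB p).map g hg = b := Subtype.ext (by
      show g ≫ pr p ≫ _ = _; rw [← Category.assoc, hgπ]; exact pullback.lift_snd _ _ _)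
    have hc : (ptC p).map g hg = c := Subtype.ext (pullback.lift_snd _ _ _)
    have he : (ptE e).map g hg = e.map u (Category.comp_id _) := Subtype.ext (by
      show g ≫ t3 p ≫ e.1 = u ≫ e.1; rw [← Category.assoc, hg])
    have hmap : ∀ (v : Pt p (t3 p)), v.map (U.fromSpecResidueField z ≫ g)
        (show _ = U.fromSpecResidueField z ≫ u by rw [Category.assoc, hg]) =
          (v.map g hg).map (U.fromSpecResidueField z) rfl := fun v => Subtype.ext (Category.assoc _ _ _)
    show Rel _ _ _ _
    rw [hmap, hmap, hmap, hmap, ha, hb, hc, he]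
    exact hrel z
  obtain ⟨g', hg'⟩ : ∃ g' : U ⟶ I.subscheme, g' ≫ I.subschemeι = g := by
    refine ⟨IsClosedImmersion.lift I.subschemeι g ?_, IsClosedImmersion.lift_fac _ _ _⟩
    rw [I.ker_subschemeι]
    refine Groth.L18.vanishingIdeal_le_ker g Z ?_
    rintro _ ⟨z, rfl⟩
    have h := mem_relSet e (hR z) (IsLocalRing.closedPoint (U.residueField z))
    rwa [Scheme.Hom.comp_apply, Scheme.fromSpecResidueField_apply] at h
  have : f = g' ≫ h := by rw [← Category.assoc, hg', hgπ]
  show f ≫ _ = c.1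
  rw [this, Category.assoc, IsIso.hom_inv_id_assoc, ← Category.assoc, hg']
  exact pullback.lift_snd _ _ _

end Groth.L21.G1
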