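import Groth.Agent.L21.GenusOne.GlobGen
import Groth.Agent.L21.CurveDual.Exists
import Groth.Agent.L21.CurveGor.Main
import Groth.Agent.L21.Nodal.ClosedSub
import Groth.Agent.L21.Duality.Canonical
import Groth.Agent.L12.GenusZero.Apps
import Groth.Agent.L03.ShStab.QuadricCoh
import Groth.Agent.L16.Rees.Consequences
import Groth.Agent.S1530

/-!
Normal generation on integral Gorenstein curves of genus one (base point free pencil and duality).
-/

set_option autoImplicit false
set_option backward.isDefEq.respectTransparency false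
set_option linter.style.haveILetI false
universe u

open CategoryTheory CategoryTheory.Limits AlgebraicGeometry TopologicalSpace Opposite IsLocalRing
attribute [local instance] Curv2.resAlgebra

noncomputable section

namespace Groth.L21.GenusOne.NG

open Groth.L21.RR
open Groth.L16.CohLinear (hmap hmap_comp hmap_id overLin delta exact_hmap_delta exact_hmap_hmap)
open Groth.L18.GenLoc (secOf tens)

section Koszul

variable {X : Scheme.{u}} {L : X.Modules}

theorem mulS_structure (u : Coh.structureModule X ⟶ L) :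
    mulS (Coh.structureModule X) u = u ≫ mulOne L := by
  refine hom_ext_one ?_
  rw [Scheme.Modules.Hom.comp_app, ConcreteCategory.comp_apply, mulS_app, mulOne_app, secOf_eq,
    Groth.L18.Frame.rs_self, Groth.L18.Frame.rs_self]

/-- The map `O ⊕ O → L` of two sections, twisted by `N`. -/
abbrev pair (N : X.Modules) (s t : Coh.structureModule X ⟶ L) : N ⊞ N ⟶ CohB1.tensorMod N L :=
  biprod.desc (mulS N s) (mulS N t)

theorem epi_pair (hL : PicF.IsInvertible L) {N : X.Modules} (hN : PicF.IsInvertible N)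
    {s t : Coh.structureModule X ⟶ L}
    (hst : ∀ x, Function.Surjective (st s x) ∨ Function.Surjective (st t x)) : Epi (pair N s t) := by
  refine (Groth.L21.Mod.epi_iff_stalk_surjective _).2 fun x v => ?_
  show ∃ a, st (pair N s t) x a = v
  rcases hst x with h | h <;> obtain ⟨a, ha⟩ := surjective_st_mulS hN hL h v
  · exact ⟨st biprod.inl x a, by rw [← st_comp, biprod.inl_desc, ha]⟩
  · exact ⟨st biprod.inr x a, by rw [← st_comp, biprod.inr_desc, ha]⟩

theorem pair_comm (hL : PicF.IsInvertible L) (N : X.Modules) (s t u : Coh.structureModule X ⟶ L) :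
    pair N s t ≫ mulS _ u = biprod.map (mulS N u) (mulS N u) ≫ pair (CohB1.tensorMod N L) s t := by
  refine biprod.hom_ext' _ _ ?_ ?_
  · rw [biprod.inl_desc_assoc, biprod.inl_map_assoc, biprod.inl_desc, mulS_comm N hL s u]
  · rw [biprod.inr_desc_assoc, biprod.inr_map_assoc, biprod.inr_desc, mulS_comm N hL t u]

/-- The Koszul relation of two sections. -/
abbrev syz (N : X.Modules) (s t : Coh.structureModule X ⟶ L) :
    N ⟶ CohB1.tensorMod N L ⊞ CohB1.tensorMod N L :=
  biprod.lift (mulS N t) (-mulS N s)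

theorem syz_pair (hL : PicF.IsInvertible L) (N : X.Modules) (s t : Coh.structureModule X ⟶ L) :
    syz N s t ≫ pair (CohB1.tensorMod N L) s t = 0 := by
  rw [biprod.lift_desc, Preadditive.neg_comp, mulS_comm N hL t s, add_neg_cancel]

theorem st_zero_apply {M M' : X.Modules} (x : X) (v : M.presheaf.stalk x) : st (0 : M ⟶ M') x v = 0 := by
  rw [st, Functor.map_zero]; rfl

theorem epi_kernel_lift (hL : PicF.IsInvertible L) {N : X.Modules} (hN : PicF.IsInvertible N)
    {s t : Coh.structureModule X ⟶ L}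
    (hst : ∀ x, Function.Surjective (st s x) ∨ Function.Surjective (st t x)) :
    Epi (kernel.lift (pair (CohB1.tensorMod N L) s t) (syz N s t) (syz_pair hL N s t)) := by
  set M := CohB1.tensorMod N L
  have hM : PicF.IsInvertible M := Groth.L18.GenLoc.isInvertible_tensor hN hL
  refine (Groth.L21.Mod.epi_iff_stalk_surjective _).2 fun x v => ?_
  show ∃ z, st (kernel.lift (pair M s t) (syz N s t) _) x z = v
  have hinj : Function.Injective (st (kernel.ι (pair M s t)) x) :=
    (Groth.L21.Mod.mono_iff_stalk_injective (kernel.ι (pair M s t))).1 inferInstance x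
  suffices hz : ∃ z, st (syz N s t) x z = st (kernel.ι (pair M s t)) x v by
    obtain ⟨z, hz⟩ := hz
    exact ⟨z, hinj (by rw [← st_comp, kernel.lift_ι]; exact hz)⟩
  have hv0 : st (pair M s t) x (st (kernel.ι (pair M s t)) x v) = 0 := by
    rw [← st_comp, kernel.condition, st_zero_apply]
  generalize st (kernel.ι (pair M s t)) x v = w at hv0
  have htot : ∀ y : (M ⊞ M).presheaf.stalk x, y = st biprod.inl x (st biprod.fst x y) +
      st biprod.inr x (st biprod.snd x y) := fun y => by
    have h := congrArg (fun q : M ⊞ M ⟶ M ⊞ M => st q x y) (biprod.total (X := M) (Y := M))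
    simp only [Groth.L12.GenusZero.st_add] at h
    rw [st_comp, st_comp] at h
    refine Eq.trans ?_ h.symm
    simp only [st, CategoryTheory.Functor.map_id]
    rfl
  have hδ : ∀ y, st (pair M s t) x y = st (mulS M s) x (st biprod.fst x y) +
      st (mulS M t) x (st biprod.snd x y) := fun y => by
    conv_lhs => rw [htot y]
    rw [map_add, ← st_comp biprod.inl (pair M s t), ← st_comp biprod.inr (pair M s t), biprod.inl_desc,
      biprod.inr_desc]
  have h0 : ∀ z, st (mulS M s) x (st (mulS N t) x z) + st (mulS M t) x (-st (mulS N s) x z) = 0 := fun z => by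
    rw [map_neg, ← st_comp, ← st_comp, mulS_comm N hL t s, add_neg_cancel]
  have hfst : ∀ z, st biprod.fst x (st (syz N s t) x z) = st (mulS N t) x z := fun z => by
    rw [← st_comp, biprod.lift_fst]
  have hsnd : ∀ z, st biprod.snd x (st (syz N s t) x z) = -st (mulS N s) x z := fun z => by
    rw [← st_comp, biprod.lift_snd, st, Functor.map_neg]; rfl
  rw [hδ] at hv0
  rcases hst x with h | h
  · obtain ⟨z, hz⟩ := surjective_st_mulS hN hL h (-st biprod.snd x w)
    refine ⟨z, ?_⟩
    have h2 : st biprod.snd x w = -st (mulS N s) x z := by rw [hz, neg_neg]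
    have h1 : st biprod.fst x w = st (mulS N t) x z := by
      have e : st (mulS M s) x (st biprod.fst x w) + st (mulS M t) x (st biprod.snd x w) =
          st (mulS M s) x (st (mulS N t) x z) + st (mulS M t) x (st biprod.snd x w) := by rw [hv0, h2, h0]
      exact Groth.L12.GenusZero.injective_st_mulS_of_surjective hM hL h (add_right_cancel e)
    rw [htot (st (syz N s t) x z), hfst, hsnd, ← h1, ← h2, ← htot]
  · obtain ⟨z, hz⟩ := surjective_st_mulS hN hL h (st biprod.fst x w)
    refine ⟨z, ?_⟩
    have h2 : st biprod.snd x w = -st (mulS N s) x z := by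
      have e : st (mulS M s) x (st biprod.fst x w) + st (mulS M t) x (st biprod.snd x w) =
          st (mulS M s) x (st biprod.fst x w) + st (mulS M t) x (-st (mulS N s) x z) := by rw [hv0, ← hz, h0]
      exact Groth.L12.GenusZero.injective_st_mulS_of_surjective hM hL h (add_left_cancel e)
    rw [htot (st (syz N s t) x z), hfst, hsnd, hz, ← h2, ← htot]

end Koszul

variable {k : Type u} [Field k] {X : Scheme.{u}} [IsIntegral X] [X.Over (Spec (CommRingCat.of k))]
  [IsProper (X ↘ Spec (CommRingCat.of k))]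

theorem euler_structure (hd : topologicalKrullDim X ≤ 1) (hg : h k 1 (Coh.structureModule X) = 1)
    (h0 : h k 0 (Coh.structureModule X) = 1) : Curv2.euler k X (Coh.structureModule X) = 0 := by
  rw [euler_eq k hd, hg, h0]; rfl

/-- On a Gorenstein curve of genus one the dualizing module is trivial. -/
theorem exists_trivial_dual (hdim : topologicalKrullDim X = 1)
    (hgor : ∀ x : X, LocCoh.IsGorensteinLocalRing (X.presheaf.stalk x))
    (hg : h k 1 (Coh.structureModule X) = 1) :
    h k 0 (Coh.structureModule X) = 1 ∧ ∃ (ω : X.Modules) (t : Coh.HH X ω 1 →ₗ[k] k),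
      Canon.IsRDualOver k X 1 ω t ∧ Nonempty (Coh.structureModule X ≅ ω) := by
  haveI := isNoetherian_of_proper (X := X) k
  have hd := hdim.le
  obtain ⟨ω, t, ht⟩ := Groth.L21.CurveDual.exists_isRDual_of_proper (X := X) k hd
  have hcl : Groth.L21.Nodal.CurveLike X :=
    ⟨fun a b c hab hbc => Groth.L21.RR.Top.spec_of_dim_le_one (X := X.toTopCat) hd a b c hab hbc,
      fun x hx => ⟨genericPoint X, (ne_genericPoint_of_isClosed hdim hx).symm,
        (genericPoint_spec X).specializes trivial⟩⟩
  have S : Groth.L21.CurveGor.Setup k X ω t :=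
    { hd := hd
      hω := ht
      hnf := fun x hx => Groth.L21.Nodal.not_isField_stalk_of_curveLike hcl x hx
      hopen := fun x hx ho => ne_genericPoint_of_isClosed hdim hx
        (((genericPoint_spec X).specializes (Set.mem_univ x)).mem_open ho rfl).symm }
  have hω : PicF.IsInvertible ω := S.isInvertible fun x _ => hgor x
  have hω0 : h k 0 ω = 1 := (Groth.L21.CurveDual.h0_eq ht).trans hg
  have hnt : Nontrivial (Coh.HH X ω 0) :=
    Module.nontrivial_of_finrank_pos (R := k) (by rw [← h] ; omega)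
  obtain ⟨φ, hφ⟩ := exists_hom_ne_zero (L := ω)
  haveI := mono_of_ne_zero hω hφ
  haveI : Nonempty (⊤ : X.Opens) := ⟨⟨genericPoint X, trivial⟩⟩
  haveI : Nontrivial (Coh.HH X (Coh.structureModule X) 0) :=
    (e0 (Coh.structureModule X)).toEquiv.nontrivial (β := Γ(X, ⊤))
  haveI := finite_HH' k (Groth.L16.CohClosedPush.isCoh_structure (X := X)) 0
  haveI := finite_HH' k (Groth.L16.ProperFinite.isCoh_of_isInvertible hω) 0
  have hO1 : 1 ≤ h k 0 (Coh.structureModule X) := Module.finrank_pos
  have hO2 : h k 0 (Coh.structureModule X) ≤ h k 0 ω :=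
    LinearMap.finrank_le_finrank_of_injective (f := hk k φ 0) (injective_hmap_zero φ)
  have hO : h k 0 (Coh.structureModule X) = 1 := by omega
  have hdω : Curv2.deg k X ω 1 = 0 := by
    have h1 := Groth.L21.CurveDual.euler_eq_neg hd ht S.assO
    rw [Curv2.deg, h1, euler_structure hd hg hO]
    rfl
  exact ⟨hO, ω, t, ht, Groth.L21.Duality.nonempty_iso_of_deg_eq_zero hd hω hdω hnt⟩

/-- Invertible modules of positive degree have no first cohomology. -/
theorem subsingleton_h1 (hd : topologicalKrullDim X ≤ 1) (hg : h k 1 (Coh.structureModule X) = 1)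
    (h0 : h k 0 (Coh.structureModule X) = 1) {L : X.Modules} (hL : PicF.IsInvertible L)
    (hdeg : 1 ≤ Curv2.deg k X L 1) : Subsingleton (Coh.HH X L 1) := by
  haveI := isNoetherian_of_proper (X := X) k
  refine subsingleton_h1_of_euler_ge k hd hL (𝟙 L) (Groth.L16.ProperFinite.isCoh_of_isInvertible hL) ?_
  have hd' : Curv2.euler k X L - Curv2.euler k X (Coh.structureModule X) = Curv2.deg k X L 1 := by
    rw [Curv2.deg]; push_cast; ring
  rw [euler_structure hd hg h0] at hd'
  rw [hg]
  push_cast
  omega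

theorem h0_eq_deg (hd : topologicalKrullDim X ≤ 1) (hg : h k 1 (Coh.structureModule X) = 1)
    (h0 : h k 0 (Coh.structureModule X) = 1) {L : X.Modules} (hL : PicF.IsInvertible L)
    (hdeg : 1 ≤ Curv2.deg k X L 1) : (h k 0 L : ℤ) = Curv2.deg k X L 1 ∧
      Curv2.euler k X L = Curv2.deg k X L 1 := by
  have h1 := h_eq_zero_of_subsingleton k (subsingleton_h1 hd hg h0 hL hdeg)
  have h2 : Curv2.deg k X L 1 = Curv2.euler k X L - 0 := by
    rw [Curv2.deg, euler_structure hd hg h0]; push_cast; ring
  have h3 := euler_eq k hd L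
  rw [h1] at h3
  constructor <;> omega

/-- The value of a section at a point vanishes iff the composite to the skyscraper does. -/
theorem comp_toPoint_eq_zero_iff {L : X.Modules} (hL : PicF.IsInvertible L) {P : X} (hP : IsClosed ({P} : Set X))
    {α : L.presheaf.stalk P →ₗ[X.presheaf.stalk P] ResidueField (X.presheaf.stalk P)}
    (hα : Function.Surjective α) (hα0 : ∀ v, α v = 0 ↔
      v ∈ maximalIdeal (X.presheaf.stalk P) • (⊤ : Submodule (X.presheaf.stalk P) (L.presheaf.stalk P)))
    (φ : Coh.structureModule X ⟶ L) :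
    φ ≫ toPoint P α = 0 ↔ ¬ Function.Surjective (st φ P) := by
  haveI := Groth.L00.Sky.isIso_counit (x := P) (resMod P)
  constructor
  · intro hc hs
    obtain ⟨v, hv⟩ := hα 1
    obtain ⟨w, hw⟩ := hs v
    have h1 := counit_toPoint (P := P) α (st φ P w)
    rw [← st_comp, hc, hw, hv, st, Functor.map_zero] at h1
    exact one_ne_zero (α := ResidueField (X.presheaf.stalk P)) (h1.symm.trans (map_zero _))
  · intro hs
    obtain ⟨e, he⟩ := exists_frame_stalk hL P
    obtain ⟨a, ha⟩ := he.2 (st φ P (one X P))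
    have hz : α (st φ P (one X P)) = 0 := by
      refine (hα0 _).2 ?_
      rw [← ha]
      exact Submodule.smul_mem_smul ((IsLocalRing.mem_maximalIdeal _).2
        fun hu => hs ((surjective_st_iff he φ ha).2 hu)) Submodule.mem_top
    refine Groth.L21.Mod.hom_ext_stalk fun x => ?_
    ext v
    rw [Functor.map_zero]
    change st (φ ≫ toPoint P α) x v = 0
    by_cases hx : x = P
    · subst hx
      apply (ConcreteCategory.bijective_of_isIso ((Groth.L00.Sky.adj x).counit.app (resMod x))).1
      rw [st_comp, counit_toPoint, map_zero]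
      obtain ⟨r, rfl⟩ := (bijective_smul_one x).2 v
      rw [map_smul, map_smul, hz, smul_zero]
    · haveI := subsingleton_stalk_sky (P := P) hP hx
      exact Subsingleton.elim _ _

theorem finite_homO {M : X.Modules} (hM : Coh.IsCoh M) : Module.Finite k (Coh.structureModule X ⟶ M) :=
  haveI := finite_HH' (X := X) k hM 0
  Module.Finite.equiv (LinearEquiv.ofBijective _ (Groth.L21.CurveDual.homH0_bijective (k := k) M)).symm

/-- A base point free pencil. -/
theorem exists_pencil [Infinite k] (hd : topologicalKrullDim X ≤ 1) {L : X.Modules} (hL : PicF.IsInvertible L)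
    (hb : ∀ P : X, IsClosed ({P} : Set X) → ∃ φ : Coh.structureModule X ⟶ L, Function.Surjective (st φ P))
    (h2 : 2 ≤ h k 0 L) :
    ∃ s t : Coh.structureModule X ⟶ L, LinearIndependent k ![s, t] ∧
      ∀ x, Function.Surjective (st s x) ∨ Function.Surjective (st t x) := by
  haveI := isNoetherian_of_proper (X := X) k
  haveI := finite_homO (k := k) (Groth.L16.ProperFinite.isCoh_of_isInvertible hL)
  have hr : 2 ≤ Module.finrank k (Coh.structureModule X ⟶ L) := by
    rw [← Groth.L21.CurveDual.h0_eq_finrank_hom]; exact h2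
  haveI : Nontrivial (Coh.structureModule X ⟶ L) := Module.nontrivial_of_finrank_pos (R := k) (by omega)
  obtain ⟨s, hs⟩ := exists_ne (0 : Coh.structureModule X ⟶ L)
  have hZ : {x : X | x ∉ CohB1.genLocus L s}.Finite := finite_compl_genLocus hd hL hs
  let Zc := {x : X | x ∈ {x : X | x ∉ CohB1.genLocus L s} ∧ IsClosed ({x} : Set X)}
  haveI : Finite Zc := (hZ.subset fun x hx => hx.1).to_subtype
  choose α hα hα0 using fun P : X => exists_value hL P
  let p : Option Zc → Submodule k (Coh.structureModule X ⟶ L) := fun o => o.elim (k ∙ s)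
    fun z => LinearMap.ker (Linear.rightComp k (Coh.structureModule X) (toPoint z.1 (α z.1)))
  have hp : ∀ o, p o ≠ ⊤ := by
    rintro (_ | z) htop
    · have h1 : Module.finrank k (p none) = 1 := finrank_span_singleton hs
      rw [htop, finrank_top] at h1
      omega
    · obtain ⟨φ, hφ⟩ := hb z.1 z.2.2
      have hmem : φ ∈ p (some z) := htop ▸ Submodule.mem_top
      exact (comp_toPoint_eq_zero_iff hL z.2.2 (hα z.1) (hα0 z.1) φ).1 hmem hφ
  obtain ⟨t, ht⟩ := Submodule.exists_forall_notMem_of_forall_ne_top p hp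
  refine ⟨s, t, (LinearIndependent.pair_iff' hs).2 fun a ha =>
    ht none (Submodule.mem_span_singleton.2 ⟨a, ha⟩), fun x => ?_⟩
  by_cases hx : IsClosed ({x} : Set X)
  · by_cases hxs : Function.Surjective (st s x)
    · exact Or.inl hxs
    refine Or.inr ?_
    by_contra hns
    exact ht (some ⟨x, fun hm => hxs ((mem_genLocus_iff hL s x).1 hm), hx⟩)
      ((comp_toPoint_eq_zero_iff hL hx (hα x) (hα0 x) t).2 hns)
  · exact Or.inl (surjective_st_of_not_closed hd hL hs hx)

theorem h0_pairK (hd : topologicalKrullDim X ≤ 1) (hg : h k 1 (Coh.structureModule X) = 1)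
    (h0 : h k 0 (Coh.structureModule X) = 1) :
    h k 0 (Coh.structureModule X ⊞ Coh.structureModule X) = 2 ∧
      Curv2.euler k X (Coh.structureModule X ⊞ Coh.structureModule X) = 0 := by
  haveI := isNoetherian_of_proper (X := X) k
  haveI := finite_HH' k (Groth.L16.CohClosedPush.isCoh_structure (X := X)) 0
  haveI := finite_HH' k (Groth.L16.CohClosedPush.isCoh_structure (X := X)) 1
  have a0 : h k 0 (Coh.structureModule X ⊞ Coh.structureModule X) = 2 := by
    rw [h, Groth.L03.ShStab.QuadricCoh.finrank_biprod]; exact congrArg₂ (· + ·) h0 h0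
  have a1 : h k 1 (Coh.structureModule X ⊞ Coh.structureModule X) = 2 := by
    rw [h, Groth.L03.ShStab.QuadricCoh.finrank_biprod]; exact congrArg₂ (· + ·) hg hg
  exact ⟨a0, by rw [euler_eq k hd, a0, a1]; rfl⟩

theorem hom_structure_scalar (h0 : h k 0 (Coh.structureModule X) = 1)
    (a : Coh.structureModule X ⟶ Coh.structureModule X) :
    ∃ c : k, a = c • 𝟙 (Coh.structureModule X) := by
  have h1 : Module.finrank k (Coh.structureModule X ⟶ Coh.structureModule X) = 1 := by
    rw [← Groth.L21.CurveDual.h0_eq_finrank_hom]; exact h0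
  have hne : (𝟙 (Coh.structureModule X) : Coh.structureModule X ⟶ _) ≠ 0 := fun h => by
    haveI : Subsingleton (Coh.structureModule X ⟶ Coh.structureModule X) :=
      ⟨fun f g => by rw [← Category.comp_id f, ← Category.comp_id g, h, comp_zero, comp_zero]⟩
    rw [Module.finrank_zero_of_subsingleton] at h1
    exact zero_ne_one h1
  obtain ⟨c, hc⟩ := exists_smul_eq_of_finrank_eq_one h1 hne a
  exact ⟨c, hc.symm⟩

/-- Products of sections generate `H⁰(L ⊗ L)`. -/
theorem closure_tens_eq_top [Infinite k] (hdim : topologicalKrullDim X = 1)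
    (hgor : ∀ x : X, LocCoh.IsGorensteinLocalRing (X.presheaf.stalk x))
    (hg : h k 1 (Coh.structureModule X) = 1) {L : X.Modules} (hL : PicF.IsInvertible L)
    (hdeg : 3 ≤ Curv2.deg k X L 1) :
    AddSubgroup.closure {z | ∃ (m : (CohB1.tensorPow L 1).val.obj (op ⊤))
      (v : L.val.obj (op ⊤)), z = SecTwist.tmul (CohB1.tensorPow L 1) L ⊤ m v} = ⊤ := by
  haveI := isNoetherian_of_proper (X := X) k
  have hd := hdim.le
  obtain ⟨h0, ω, τt, hω, ⟨eω⟩⟩ := exists_trivial_dual hdim hgor hg
  let O := Coh.structureModule X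
  have hO : PicF.IsInvertible O := Groth.L18.Ample.isInvertible_structureModule X
  have hOc : Coh.IsCoh O := Groth.L16.CohClosedPush.isCoh_structure
  have hLc := Groth.L16.ProperFinite.isCoh_of_isInvertible hL
  let L1 := CohB1.tensorMod O L
  have hL1 : PicF.IsInvertible L1 := Groth.L18.GenLoc.isInvertible_tensor hO hL
  obtain ⟨hdL, heL⟩ := h0_eq_deg hd hg h0 hL (by omega)
  have eL1 : L1 ≅ L := Groth.L00.Tensor.tensorUnitLeft L
  obtain ⟨s, t, hli, hst⟩ := exists_pencil (k := k) hd hL
    (fun P hP => Groth.L21.GenusOne.GG.exists_surjective_st k hd hg hL (by omega) hP) (by omega)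
  haveI := epi_pair hL hO hst
  haveI := epi_pair hL hL1 hst
  let δ0 := pair O s t
  let δ1 := pair L1 s t
  let S : ShortComplex X.Modules := ShortComplex.mk (kernel.ι δ0) δ0 (kernel.condition δ0)
  let S' : ShortComplex X.Modules := ShortComplex.mk (kernel.ι δ1) δ1 (kernel.condition δ1)
  have hS : S.ShortExact :=
    { exact := ShortComplex.exact_of_f_is_kernel _ (kernelIsKernel δ0) }
  have hS' : S'.ShortExact :=
    { exact := ShortComplex.exact_of_f_is_kernel _ (kernelIsKernel δ1) }
  obtain ⟨hP0, hPe⟩ := h0_pairK hd hg h0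
  have hPc : Coh.IsCoh (O ⊞ O) := Groth.L16.Devissage.isCoh_biprod hOc hOc
  have hL1c := Groth.L16.ProperFinite.isCoh_of_isInvertible hL1
  have hKc : Coh.IsCoh (kernel δ0) := (Groth.L16.CohKernel.isCoh_kernel_cokernel hPc hL1c δ0).1
  haveI := finite_HH' k hPc 0
  haveI := finite_HH' k hL1c 0
  haveI := finite_HH' k hKc 1
  -- the kernel has no sections and one-dimensional-larger first cohomology
  have hK0 : h k 0 (kernel δ0) = 0 := by
    haveI : Subsingleton (O ⟶ kernel δ0) := ⟨fun θ θ' => by
      suffices hh : ∀ θ : O ⟶ kernel δ0, θ = 0 by rw [hh θ, hh θ']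
      intro θ
      obtain ⟨a, ha⟩ := hom_structure_scalar h0 (θ ≫ kernel.ι δ0 ≫ biprod.fst)
      obtain ⟨b, hb⟩ := hom_structure_scalar h0 (θ ≫ kernel.ι δ0 ≫ biprod.snd)
      have hθ : θ ≫ kernel.ι δ0 = biprod.lift (a • 𝟙 O) (b • 𝟙 O) := by
        refine biprod.hom_ext _ _ ?_ ?_
        · rw [biprod.lift_fst, Category.assoc]; exact ha
        · rw [biprod.lift_snd, Category.assoc]; exact hb
      have h1 : biprod.lift (a • 𝟙 O) (b • 𝟙 O) ≫ δ0 = 0 := by
        rw [← hθ, Category.assoc, kernel.condition, comp_zero]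
      rw [biprod.lift_desc, Linear.smul_comp, Linear.smul_comp, Category.id_comp, Category.id_comp,
        mulS_structure, mulS_structure, ← Linear.smul_comp, ← Linear.smul_comp, ← Preadditive.add_comp] at h1
      haveI : Mono (mulOne L) := (Groth.L21.Mod.mono_iff_stalk_injective _).2
        fun x => (bijective_st_mulOne hL x).1
      obtain ⟨ha0, hb0⟩ := LinearIndependent.pair_iff.1 hli a b (zero_of_comp_mono _ h1)
      refine zero_of_comp_mono (kernel.ι δ0) (hθ.trans ?_)
      rw [ha0, hb0, zero_smul]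
      exact biprod.hom_ext _ _ (by rw [biprod.lift_fst, zero_comp]) (by rw [biprod.lift_snd, zero_comp])⟩
    rw [Groth.L21.CurveDual.h0_eq_finrank_hom, Module.finrank_zero_of_subsingleton]
  have hK1 : (h k 1 (kernel δ0) : ℤ) = Curv2.deg k X L 1 := by
    have h1 := euler_add k hd hS hKc hPc hL1c
    change Curv2.euler k X (O ⊞ O) = Curv2.euler k X (kernel δ0) + Curv2.euler k X L1 at h1
    rw [hPe, euler_congr k eL1, heL, euler_eq k hd (kernel δ0), hK0] at h1
    omega
  -- the twisted kernel is the dualizing module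
  let ψ := kernel.lift δ1 (syz O s t) (syz_pair hL O s t)
  haveI : Epi ψ := epi_kernel_lift hL hO hst
  haveI : Mono ψ := by
    haveI : Mono (mulS O t) := mono_mulS hO hL (hli.ne_zero 1)
    haveI : Mono (syz O s t) := by
      haveI : Mono (syz O s t ≫ biprod.fst) := by rw [biprod.lift_fst]; infer_instance
      exact mono_of_mono _ (biprod.fst : L1 ⊞ L1 ⟶ L1)
    exact mono_of_mono_fac (kernel.lift_ι δ1 (syz O s t) (syz_pair hL O s t))
  haveI : IsIso ψ := isIso_of_mono_of_epi ψ
  let e : ω ≅ kernel δ1 := eω.symm ≪≫ asIso ψ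
  -- twisting by sections exhausts the homomorphisms
  have hcomm : ∀ u : O ⟶ L, (kernel.ι δ0 ≫ biprod.map (u ≫ mulOne L) (u ≫ mulOne L)) ≫ δ1 = 0 := fun u => by
    rw [← mulS_structure, Category.assoc, ← pair_comm hL O s t u, kernel.condition_assoc, zero_comp]
  let T : (O ⟶ L) →ₗ[k] (kernel δ0 ⟶ kernel δ1) :=
    { toFun := fun u => kernel.lift δ1 _ (hcomm u)
      map_add' := fun a b => by
        apply (cancel_mono (kernel.ι δ1)).1
        refine (kernel.lift_ι _ _ _).trans ?_
        conv_rhs => rw [Preadditive.add_comp, kernel.lift_ι, kernel.lift_ι, ← Preadditive.comp_add]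
        congr 1
        refine biprod.hom_ext' _ _ ?_ ?_ <;> simp only [Preadditive.comp_add, biprod.inl_map, biprod.inr_map,
          Preadditive.add_comp]
      map_smul' := fun c a => by
        apply (cancel_mono (kernel.ι δ1)).1
        refine (kernel.lift_ι _ _ _).trans ?_
        conv_rhs => rw [RingHom.id_apply, Linear.smul_comp, kernel.lift_ι, ← Linear.comp_smul]
        congr 1
        refine biprod.hom_ext' _ _ ?_ ?_ <;> simp only [Linear.comp_smul, biprod.inl_map, biprod.inr_map,
          Linear.smul_comp] }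
  have hT : Function.Injective T := by
    rw [injective_iff_map_eq_zero]
    intro u hu
    by_contra hu0
    haveI : Mono (u ≫ mulOne L) := by rw [← mulS_structure]; exact mono_mulS hO hL hu0
    have h1 : kernel.ι δ0 ≫ biprod.map (u ≫ mulOne L) (u ≫ mulOne L) = 0 := by
      rw [← kernel.lift_ι δ1 _ (hcomm u), show kernel.lift δ1 _ (hcomm u) = T u from rfl, hu, zero_comp]
    have h2 : kernel.ι δ0 = 0 := by
      refine biprod.hom_ext _ _ ?_ ?_
      · have h3 : (kernel.ι δ0 ≫ biprod.fst) ≫ (u ≫ mulOne L) = 0 := by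
          rw [Category.assoc, ← biprod.map_fst (u ≫ mulOne L) (u ≫ mulOne L), ← Category.assoc, h1, zero_comp]
        exact (zero_of_comp_mono _ h3).trans zero_comp.symm
      · have h3 : (kernel.ι δ0 ≫ biprod.snd) ≫ (u ≫ mulOne L) = 0 := by
          rw [Category.assoc, ← biprod.map_snd (u ≫ mulOne L) (u ≫ mulOne L), ← Category.assoc, h1, zero_comp]
        exact (zero_of_comp_mono _ h3).trans zero_comp.symm
    have hz : IsZero (kernel δ0) := (IsZero.iff_id_eq_zero _).2
      ((cancel_mono (kernel.ι δ0)).1 (by rw [h2, comp_zero, comp_zero]))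
    have := h_eq_zero_of_subsingleton k (Groth.L03.Euler.subsingleton_HH_of_isZero hz 1)
    omega
  have hdimT : Module.finrank k (O ⟶ L) = Module.finrank k (kernel δ0 ⟶ kernel δ1) := by
    rw [← (Linear.homCongr k (Iso.refl (kernel δ0)) e).finrank_eq,
      Groth.L21.CurveDual.finrank_hom hω _ hKc.1, ← Groth.L21.CurveDual.h0_eq_finrank_hom]
    omega
  haveI : Module.Finite k (O ⟶ L) := finite_homO hLc
  haveI : Module.Finite k (kernel δ0 ⟶ kernel δ1) :=
    haveI := Groth.L21.CurveDual.finite_hom hω hKc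
    Module.Finite.equiv (Linear.homCongr k (Iso.refl (kernel δ0)) e)
  have hTs : Function.Surjective T :=
    (LinearMap.injective_iff_surjective_of_finrank_eq_finrank hdimT).1 hT
  -- a section outside the span of the pencil
  obtain ⟨x, hx⟩ : ∃ x : Coh.HH X L1 0, delta hS 0 x ≠ 0 := by
    by_contra hh
    push Not at hh
    have hsur : Function.Surjective (hk k δ0 0) := fun x => (exact_hmap_delta hS 0 x).1 (hh x)
    have h1 := LinearMap.finrank_le_finrank_of_surjective hsur
    change h k 0 L1 ≤ h k 0 (O ⊞ O) at h1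
    rw [hP0, h_congr k eL1] at h1
    omega
  obtain ⟨l, hl⟩ : ∃ l : Module.Dual k (Coh.HH X (kernel δ0) 1), l (delta hS 0 x) ≠ 0 := by
    by_contra hh
    push Not at hh
    exact hx ((Module.forall_dual_apply_eq_zero_iff k _).1 hh)
  obtain ⟨θ, rfl⟩ := (Groth.L21.CurveDual.homEquiv hω _ hKc.1).surjective l
  rw [Groth.L21.CurveDual.homEquiv_apply] at hl
  have hθ : hmap (θ ≫ e.hom) 1 (delta hS 0 x) ≠ 0 := fun h1 => by
    apply hl
    have h2 : hmap θ 1 (delta hS 0 x) = hmap (θ ≫ e.hom ≫ e.inv) 1 (delta hS 0 x) := by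
      rw [e.hom_inv_id, Category.comp_id]
    rw [h2, ← Category.assoc, hmap_comp, h1, map_zero, map_zero]
  obtain ⟨u, hu⟩ := hTs (θ ≫ e.hom)
  let τ : S ⟶ S' :=
    { τ₁ := T u
      τ₂ := biprod.map (u ≫ mulOne L) (u ≫ mulOne L)
      τ₃ := mulS L1 u
      comm₁₂ := kernel.lift_ι δ1 _ (hcomm u)
      comm₂₃ := by
        show biprod.map _ _ ≫ δ1 = δ0 ≫ _
        rw [← mulS_structure]
        exact (pair_comm hL O s t u).symm }
  let y := hmap (mulS L1 u) 0 x
  have hy : delta hS' 0 y ≠ 0 := by
    rw [show delta hS' 0 y = hmap (T u) 1 (delta hS 0 x) from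
      Groth.L16.Rees.delta_naturality hS hS' τ x, hu]
    exact hθ
  have hH1 : Module.finrank k (Coh.HH X (kernel δ1) 1) = 1 :=
    (h_congr k (asIso ψ) 1).symm.trans hg
  -- conclusion
  set C := AddSubgroup.closure {z | ∃ (m : (CohB1.tensorPow L 1).val.obj (op ⊤))
      (v : L.val.obj (op ⊤)), z = SecTwist.tmul (CohB1.tensorPow L 1) L ⊤ m v}
  have hmem : ∀ (φ : O ⟶ L) (a : Coh.HH X L1 0),
      e0 (CohB1.tensorMod L1 L) (hmap (mulS L1 φ) 0 a) ∈ C := fun φ a => by
    rw [e0_hmap]
    refine AddSubgroup.subset_closure ⟨e0 L1 a, secOf φ, ?_⟩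
    rw [mulS_app, Groth.L18.Frame.rs_self]
    rfl
  refine eq_top_iff.2 fun w _ => ?_
  obtain ⟨c, hc⟩ := exists_smul_eq_of_finrank_eq_one hH1 hy
    (delta hS' 0 ((e0 (CohB1.tensorMod L1 L)).symm w))
  have hker : delta hS' 0 ((e0 (CohB1.tensorMod L1 L)).symm w - c • y) = 0 := by
    have hlin : delta hS' 0 (c • y) = c • delta hS' 0 y := (overLin k (delta hS' 0)).map_smul c y
    rw [map_sub, hlin, hc, sub_self]
  obtain ⟨v, hv⟩ := (exact_hmap_delta hS' 0 _).1 hker
  have hw : w = e0 (CohB1.tensorMod L1 L) (hmap δ1 0 v + c • y) := by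
    change hmap δ1 0 v = _ at hv
    rw [hv, sub_add_cancel, AddEquiv.apply_symm_apply]
  have hyc : c • y = hmap (mulS L1 u) 0 (c • x) := ((hk k (mulS L1 u) 0).map_smul c x).symm
  have hv2 : hmap δ1 0 v = hmap (mulS L1 s) 0 (hmap biprod.fst 0 v) +
      hmap (mulS L1 t) 0 (hmap biprod.snd 0 v) := by
    rw [← hmap_comp, ← hmap_comp, ← Groth.L21.RR.hmap_add]
    congr 1
    rw [show δ1 = biprod.desc (mulS L1 s) (mulS L1 t) from rfl]
    rw [biprod.desc_eq (f := mulS L1 s) (g := mulS L1 t)]
  rw [hw, map_add, hv2, map_add, hyc]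
  exact add_mem (add_mem (hmem s _) (hmem t _)) (hmem u _)

/-- Normal generation in degree at least three. -/
theorem normallyGenerated [Infinite k] (hdim : topologicalKrullDim X = 1)
    (hgor : ∀ x : X, LocCoh.IsGorensteinLocalRing (X.presheaf.stalk x))
    (hg : h k 1 (Coh.structureModule X) = 1) {L : X.Modules} (hL : PicF.IsInvertible L)
    (hdeg : 3 ≤ Curv2.deg k X L 1) (n : ℕ) (hn : 1 ≤ n) :
    AddSubgroup.closure {z | ∃ (m : (CohB1.tensorPow L n).val.obj (op ⊤))
      (v : L.val.obj (op ⊤)), z = SecTwist.tmul (CohB1.tensorPow L n) L ⊤ m v} = ⊤ := by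
  obtain rfl | hn2 : n = 1 ∨ 2 ≤ n := by omega
  · exact closure_tens_eq_top hdim hgor hg hL hdeg
  haveI := isNoetherian_of_proper (X := X) k
  have hd := hdim.le
  obtain ⟨h0, -⟩ := exists_trivial_dual hdim hgor hg
  have h2 := Groth.L12.GenusZero.rightExact_of_dim (X := X) k hd
  have hgen : ∀ x : X, ∃ φ : Coh.structureModule X ⟶ L, Function.Surjective (st φ x) := fun x => by
    obtain ⟨z, hz, hxz⟩ := exists_closed_specialization x
    obtain ⟨φ, hφ⟩ := Groth.L21.GenusOne.GG.exists_surjective_st k hd hg hL (by omega) hz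
    exact ⟨φ, surjective_st_of_specializes hL hxz hφ⟩
  obtain ⟨r, φ, hφ⟩ := Groth.L12.GenusZero.exists_fin_generators hL hgen
  obtain ⟨l, rfl⟩ : ∃ l, n = l + 1 := ⟨n - 1, by omega⟩
  have h1 : Subsingleton (Coh.HH X (CohB1.tensorPow L 1) 1) :=
    haveI : Subsingleton (Coh.HH X L 1) := subsingleton_h1 hd hg h0 hL (by omega)
    Function.Surjective.subsingleton (f := hmap (Groth.L00.Tensor.tensorPowOne L).inv 1) fun y =>
      ⟨hmap (Groth.L00.Tensor.tensorPowOne L).hom 1 y, by rw [← hmap_comp, Iso.hom_inv_id, hmap_id]⟩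
  exact Groth.L12.GenusZero.span_tmul h2 hL φ hφ (Groth.L18.Ample.isInvertible_tensorPow hL l)
    (Groth.L12.GenusZero.subsingleton_h1_pow h2 hL φ hφ h1 l (by omega)) (Iso.refl _)

end Groth.L21.GenusOne.NG
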