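import Groth.Agent.L21.CurveGor.RegularPoint
import Groth.Agent.L21.RR.IdealTwist
import Groth.Agent.L21.CurveAdj.Powers
import Groth.Agent.L21.Smooth.Scheme

/-!
Genus one: a smooth point and the unique differential.
-/

set_option autoImplicit false
set_option backward.isDefEq.respectTransparency false
set_option linter.style.haveILetI false
universe u

open CategoryTheory CategoryTheory.Limits AlgebraicGeometry Opposite TopologicalSpace
open IsLocalRing (maximalIdeal)

noncomputable section

namespace Groth.L21.GenusOnePt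

open Groth.L21.RR (st h one bijective_smul_one tensorStalkEquiv)
open Groth.L21.PointIdeal (mI incl incl_smul_one)

variable {X : Scheme.{u}}

/-- The trivialisation of a tensor product is natural in the trivialised factor. -/
theorem tensorStalkEquiv_left {L L' A : X.Modules} (σ : L ⟶ L') {x : X} {e : L.presheaf.stalk x}
    (he : Function.Bijective fun a : X.presheaf.stalk x => a • e) {e' : L'.presheaf.stalk x}
    (he' : Function.Bijective fun a : X.presheaf.stalk x => a • e') {b : X.presheaf.stalk x}
    (hb : st σ x e = b • e') (v : (CohB1.tensorMod L A).presheaf.stalk x) :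
    tensorStalkEquiv A he' (st (Groth.L00.Tensor.tensorMap σ (𝟙 A)) x v) = b • tensorStalkEquiv A he v := by
  obtain ⟨t, rfl⟩ := (Groth.L00.Stk.τ x L A).toLinearEquiv.surjective v
  have h1 : st (Groth.L00.Tensor.tensorMap σ (𝟙 A)) x ((Groth.L00.Stk.τ x L A).toLinearEquiv t) =
      (Groth.L00.Stk.τ x L' A).toLinearEquiv (TensorProduct.map (st σ x) LinearMap.id t) := by
    refine (congr($(Groth.L00.Stk.τ_natural (x := x) σ (𝟙 A)) t)).symm.trans ?_
    rw [CategoryTheory.Functor.map_id]
    rfl
  rw [h1]
  clear h1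
  simp only [tensorStalkEquiv, LinearEquiv.trans_apply]
  erw [LinearEquiv.symm_apply_apply, LinearEquiv.symm_apply_apply]
  induction t using TensorProduct.induction_on with
  | zero => simp only [map_zero, smul_zero]
  | tmul p q =>
    simp only [TensorProduct.map_tmul, TensorProduct.congr_tmul, TensorProduct.lid_tmul]
    obtain ⟨a, rfl⟩ := he.2 p
    have h2 : st σ x (a • e) = (a * b) • e' := by rw [map_smul, hb, smul_smul]
    simp only [h2]
    erw [LinearEquiv.ofBijective_symm_apply_apply, LinearEquiv.ofBijective_symm_apply_apply]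
    simp only [smul_smul]
    exact congrArg (· • _) (mul_comm a b)
  | add p q hp hq => simp only [map_add, smul_add]; rw [hp, hq]

/-- The trivialisation of a tensor product is natural in the second factor. -/
theorem tensorStalkEquiv_right {L A B : X.Modules} (g : A ⟶ B) {x : X} {e : L.presheaf.stalk x}
    (he : Function.Bijective fun a : X.presheaf.stalk x => a • e) (v : (CohB1.tensorMod L A).presheaf.stalk x) :
    tensorStalkEquiv B he (st (Groth.L00.Tensor.tensorMap (𝟙 L) g) x v) = st g x (tensorStalkEquiv A he v) := by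
  obtain ⟨t, rfl⟩ := (Groth.L00.Stk.τ x L A).toLinearEquiv.surjective v
  have h1 : st (Groth.L00.Tensor.tensorMap (𝟙 L) g) x ((Groth.L00.Stk.τ x L A).toLinearEquiv t) =
      (Groth.L00.Stk.τ x L B).toLinearEquiv (TensorProduct.map LinearMap.id (st g x) t) := by
    refine (congr($(Groth.L00.Stk.τ_natural (x := x) (𝟙 L) g) t)).symm.trans ?_
    rw [CategoryTheory.Functor.map_id]
    rfl
  rw [h1]
  clear h1
  simp only [tensorStalkEquiv, LinearEquiv.trans_apply]
  erw [LinearEquiv.symm_apply_apply, LinearEquiv.symm_apply_apply]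
  induction t using TensorProduct.induction_on with
  | zero => simp only [map_zero]
  | tmul p q =>
    simp only [TensorProduct.map_tmul, TensorProduct.congr_tmul, TensorProduct.lid_tmul]
    exact (map_smul (st g x) _ _).symm
  | add p q hp hq => simp only [map_add]; rw [hp, hq]

variable {p : X} (hp : IsClosed ({p} : Set X)) {L : X.Modules}

/-- The section vanishing at the point. -/
def ptSection' (I : X.IdealSheafData) (e : CohB1.tensorMod L (ClSub.idealMod I) ≅ Coh.structureModule X) :
    Coh.structureModule X ⟶ CohB1.tensorMod L (Coh.structureModule X) :=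
  e.inv ≫ Groth.L00.Tensor.tensorMap (𝟙 L) (ClSub.idealModι I)

/-- The section vanishing at the point. -/
abbrev ptSection (e : CohB1.tensorMod L (mI hp) ≅ Coh.structureModule X) :
    Coh.structureModule X ⟶ CohB1.tensorMod L (Coh.structureModule X) :=
  ptSection' (Scheme.IdealSheafData.vanishingIdeal (⟨{p}, hp⟩ : Closeds X)) e

theorem ptSection_local (hL : PicF.IsInvertible L) (e : CohB1.tensorMod L (mI hp) ≅ Coh.structureModule X) (y : X) :
    ∃ (ε : (CohB1.tensorMod L (Coh.structureModule X)).presheaf.stalk y) (b : X.presheaf.stalk y),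
      Function.Bijective (fun a : X.presheaf.stalk y => a • ε) ∧ st (ptSection hp e) y (one X y) = b • ε ∧
      (y ≠ p → IsUnit b) ∧ (y = p → Ideal.span {b} = maximalIdeal (X.presheaf.stalk y)) := by
  obtain ⟨η, hη⟩ := Groth.L21.RR.exists_frame_stalk hL y
  let ι := ClSub.idealModι (Scheme.IdealSheafData.vanishingIdeal (⟨{p}, hp⟩ : Closeds X))
  let T := tensorStalkEquiv (Coh.structureModule X) hη
  let u := tensorStalkEquiv (mI hp) hη (st e.inv y (one X y))
  have hι : st ι y u = incl hp y u • one X y := (incl_smul_one hp y u).symm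
  have hgen : ∀ w, ∃ r : X.presheaf.stalk y, r • u = w := fun w => by
    have hei : Function.Surjective (st e.inv y) :=
      ((Groth.L21.Mod.isIso_iff_stalk_bijective e.inv).1 inferInstance y).2
    obtain ⟨z, hz⟩ := hei ((tensorStalkEquiv (mI hp) hη).symm w)
    obtain ⟨r, rfl⟩ := (bijective_smul_one y).2 z
    refine ⟨r, ?_⟩
    rw [← map_smul, ← map_smul]
    exact (congrArg (tensorStalkEquiv (mI hp) hη) hz).trans (LinearEquiv.apply_symm_apply _ w)
  refine ⟨T.symm (one X y), incl hp y u, ?_, ?_, fun hy => ?_, fun hy => ?_⟩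
  · have h1 : (fun a : X.presheaf.stalk y => a • T.symm (one X y)) = T.symm ∘ fun a => a • one X y := by
      funext a; simp
    rw [h1]
    exact T.symm.bijective.comp (bijective_smul_one y)
  · apply T.injective
    rw [ptSection, ptSection', Groth.L21.RR.st_comp, tensorStalkEquiv_right, map_smul, LinearEquiv.apply_symm_apply]
    exact hι
  · obtain ⟨w, hw⟩ := Groth.L21.PointIdeal.surjective_incl hp hy 1
    obtain ⟨r, rfl⟩ := hgen w
    rw [map_smul, smul_eq_mul] at hw
    exact IsUnit.of_mul_eq_one r ((mul_comm _ _).trans hw)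
  · subst hy
    rw [← Groth.L21.PointIdeal.range_incl_self hp]
    refine le_antisymm ((Ideal.span_singleton_le_iff_mem _).2 ⟨u, rfl⟩) ?_
    rintro _ ⟨w, rfl⟩
    obtain ⟨r, rfl⟩ := hgen w
    rw [map_smul]
    exact Ideal.mem_span_singleton'.2 ⟨r, rfl⟩

variable {k : Type u} [Field k] [X.Over (Spec (CommRingCat.of k))] [IsProper (X ↘ Spec (CommRingCat.of k))]
  [AlgebraicGeometry.IsReduced X] {ω : X.Modules} {t : Coh.HH X ω 1 →ₗ[k] k}

/-- A differential vanishing at the point comes from a nonzero map out of the twisted line bundle. -/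
theorem exists_hom_of_not_mem (S : Groth.L21.CurveGor.Setup k X ω t) (hreg : IsRegularLocalRing (X.presheaf.stalk p))
    (hL : PicF.IsInvertible L) (e : CohB1.tensorMod L (mI hp) ≅ Coh.structureModule X)
    (s : Coh.structureModule X ⟶ ω) (hs : s ≠ 0) (hps : p ∉ CohB1.genLocus ω s) :
    ∃ φ : L ⟶ ω, φ ≠ 0 := by
  let O := Coh.structureModule X
  let M := CohB1.tensorMod L O
  let σ : O ⟶ M := ptSection hp e
  have hM : PicF.IsInvertible M := Groth.L18.Ample.isInvertible_of_iso (Groth.L00.Tensor.tensorUnitRight L).symm hL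
  let A : CohB1.tensorMod M O ⟶ CohB1.tensorMod M ω := Groth.L00.Tensor.tensorMap (𝟙 M) s
  let B : CohB1.tensorMod O ω ⟶ CohB1.tensorMod M ω := Groth.L00.Tensor.tensorMap σ (𝟙 ω)
  have hloc : ∀ y : X, ∃ (ε : M.presheaf.stalk y) (b : X.presheaf.stalk y)
      (hε : Function.Bijective (fun a : X.presheaf.stalk y => a • ε)), st σ y (one X y) = b • ε ∧
      Function.Injective (fun v : ω.presheaf.stalk y => b • v) ∧
      (∀ v : O.presheaf.stalk y, ∃ w, b • w = st s y v) := fun y => by
    obtain ⟨ε, b, hε, hb, hne, heq⟩ := ptSection_local hp hL e y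
    refine ⟨ε, b, hε, hb, ?_⟩
    by_cases hy : y = p
    · subst hy
      obtain ⟨W, w, hyW, hw⟩ := S.exists_frame_regular hp hreg
      have hwb := Groth.L21.RR.bijective_germ_frame hw hyW
      haveI : IsDomain (X.presheaf.stalk y) := by
        haveI := hreg; exact Groth.L01.isDomain_of_regular _
      have hb0 : b ≠ 0 := fun h0 => S.hnf y hp (IsLocalRing.isField_iff_maximalIdeal_eq.2 (by
        rw [← heq rfl, h0]; exact Ideal.span_singleton_eq_bot.2 rfl))
      refine ⟨(injective_iff_map_eq_zero (LinearMap.lsmul (X.presheaf.stalk y) (ω.presheaf.stalk y) b)).2 fun v hv => ?_,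
        fun v => ?_⟩
      · obtain ⟨a, rfl⟩ := hwb.2 v
        simp only [LinearMap.lsmul_apply, smul_smul] at hv
        have h0 : b * a = 0 := hwb.1 (hv.trans (zero_smul (X.presheaf.stalk y) _).symm)
        rw [(mul_eq_zero.1 h0).resolve_left hb0]
        exact zero_smul (X.presheaf.stalk y) _
      · obtain ⟨c, hc, hc'⟩ := Groth.L21.RR.exists_coeff_secOf hw s
        have hnu : ¬ IsUnit (X.presheaf.germ W y hyW c) := fun hu =>
          hps ((Groth.L18.GenLoc.genLocus_inf_eq s hw hc).ge ((X.mem_basicOpen c y hyW).2 hu)).1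
        have hmem : X.presheaf.germ W y hyW c ∈ Ideal.span {b} := by
          rw [heq rfl]; exact (IsLocalRing.mem_maximalIdeal _).2 hnu
        obtain ⟨d, hd⟩ := Ideal.mem_span_singleton'.1 hmem
        obtain ⟨a, rfl⟩ := (bijective_smul_one y).2 v
        refine ⟨(a * d) • ω.presheaf.germ W y hyW w, ?_⟩
        show b • _ = st s y (a • one X y)
        rw [map_smul, ← hc' y hyW, ← hd, smul_smul, smul_smul, mul_left_comm b a d, mul_comm b d]
    · exact ⟨fun v v' hv => (hne hy).smul_left_cancel.1 hv, fun v => ⟨(((hne hy).unit⁻¹ : (X.presheaf.stalk y)ˣ) : X.presheaf.stalk y) • st s y v,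
        by rw [smul_smul, IsUnit.mul_val_inv, one_smul]⟩⟩
  haveI : Mono B := by
    rw [Groth.L21.Mod.mono_iff_stalk_injective]
    intro y
    obtain ⟨ε, b, hε, hb, hinj, -⟩ := hloc y
    intro v v' hvv
    apply (tensorStalkEquiv ω (bijective_smul_one y)).injective
    apply hinj
    show b • _ = b • _
    rw [← tensorStalkEquiv_left σ (bijective_smul_one y) hε hb, ← tensorStalkEquiv_left σ (bijective_smul_one y) hε hb]
    exact congrArg _ hvv
  have hfac : A ≫ cokernel.π B = 0 := by
    refine (Groth.L21.Mod.eq_zero_iff_stalk _).2 fun y => ?_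
    ext v
    obtain ⟨ε, b, hε, hb, -, hdiv⟩ := hloc y
    obtain ⟨w, hw⟩ := hdiv (tensorStalkEquiv O hε v)
    have hAv : st A y v = st B y ((tensorStalkEquiv ω (bijective_smul_one y)).symm w) := by
      apply (tensorStalkEquiv ω hε).injective
      rw [tensorStalkEquiv_right, tensorStalkEquiv_left σ (bijective_smul_one y) hε hb,
        LinearEquiv.apply_symm_apply, hw]
    show st (A ≫ cokernel.π B) y v = 0
    rw [Groth.L21.RR.st_comp, hAv, ← Groth.L21.RR.st_comp, cokernel.condition, st, Functor.map_zero]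
    rfl
  let φ := Abelian.monoLift B A hfac
  refine ⟨(Groth.L00.Tensor.tensorUnitRight L).inv ≫ (Groth.L00.Tensor.tensorUnitRight M).inv ≫ φ ≫
    (Groth.L00.Tensor.tensorUnitLeft ω).hom, fun h0 => hs ?_⟩
  have hφ0 : φ = 0 := by
    rw [← cancel_mono (Groth.L00.Tensor.tensorUnitLeft ω).hom, ← cancel_epi (Groth.L00.Tensor.tensorUnitRight M).inv,
      ← cancel_epi (Groth.L00.Tensor.tensorUnitRight L).inv]
    simp only [zero_comp, comp_zero]
    exact h0
  have hA0 : A = 0 := by
    rw [← Abelian.monoLift_comp B A hfac]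
    exact (congrArg (· ≫ B) hφ0).trans zero_comp
  refine Groth.L21.RR.eq_zero_of_st_one s fun y => ?_
  obtain ⟨ε, b, hε, -⟩ := hloc y
  have h1 := tensorStalkEquiv_right s hε ((tensorStalkEquiv O hε).symm (one X y))
  rw [LinearEquiv.apply_symm_apply] at h1
  rw [← h1]
  change tensorStalkEquiv ω hε (st A y _) = 0
  rw [hA0, st, Functor.map_zero]
  exact map_zero _

/-- A nonzero map out of the twisted line bundle gives a differential vanishing at the point. -/
theorem exists_not_mem_of_hom (S : Groth.L21.CurveGor.Setup k X ω t) (hreg : IsRegularLocalRing (X.presheaf.stalk p))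
    (hL : PicF.IsInvertible L) (e : CohB1.tensorMod L (mI hp) ≅ Coh.structureModule X)
    (φ : L ⟶ ω) (hφ : φ ≠ 0) : ∃ s : Coh.structureModule X ⟶ ω, s ≠ 0 ∧ p ∉ CohB1.genLocus ω s := by
  let M := CohB1.tensorMod L (Coh.structureModule X)
  let ψ : M ⟶ ω := (Groth.L00.Tensor.tensorUnitRight L).hom ≫ φ
  let σ : Coh.structureModule X ⟶ M := ptSection hp e
  have hψ : ψ ≠ 0 := fun h0 => hφ (by
    rw [← cancel_epi (Groth.L00.Tensor.tensorUnitRight L).hom, comp_zero]; exact h0)
  have hM : PicF.IsInvertible M := Groth.L18.Ample.isInvertible_of_iso (Groth.L00.Tensor.tensorUnitRight L).symm hL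
  haveI := Groth.L21.RR.isNoetherian_of_proper (X := X) k
  refine ⟨σ ≫ ψ, fun h0 => hψ ?_, fun hmem => ?_⟩
  · refine Groth.L21.CurveDual.eq_zero_of_st S.hω (Groth.L16.ProperFinite.isCoh_of_isInvertible hM).1 ψ fun y hy v => ?_
    obtain ⟨ε, b, hε, hb, hne, -⟩ := ptSection_local hp hL e y
    have hy' : y ≠ p := fun hh => hy (hh ▸ hp)
    obtain ⟨a, rfl⟩ := hε.2 v
    have h1 : st (σ ≫ ψ) y (one X y) = 0 := by rw [h0, st, Functor.map_zero]; rfl
    rw [Groth.L21.RR.st_comp, hb, map_smul] at h1
    show st ψ y (a • ε) = 0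
    rw [map_smul, (hne hy').smul_eq_zero.1 h1, smul_zero]
  · obtain ⟨ε, b, hε, hb, -, heq⟩ := ptSection_local hp hL e p
    obtain ⟨W, w, hpW, hw⟩ := S.exists_frame_regular hp hreg
    have hwb := Groth.L21.RR.bijective_germ_frame hw hpW
    obtain ⟨c, hc, hc'⟩ := Groth.L21.RR.exists_coeff_secOf hw (σ ≫ ψ)
    have hu : IsUnit (X.presheaf.germ W p hpW c) :=
      (X.mem_basicOpen c p hpW).1 ((Groth.L18.GenLoc.genLocus_inf_eq (σ ≫ ψ) hw hc).le ⟨hmem, hpW⟩)
    obtain ⟨d, hd⟩ := hwb.2 (st ψ p ε)
    have h1 : st (σ ≫ ψ) p (one X p) = (b * d) • ω.presheaf.germ W p hpW w := by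
      rw [Groth.L21.RR.st_comp, hb, map_smul, ← hd, smul_smul]
    have h2 : X.presheaf.germ W p hpW c = b * d := hwb.1 ((hc' p hpW).trans h1)
    have hbm : b ∈ maximalIdeal (X.presheaf.stalk p) := by
      rw [← heq rfl]; exact Ideal.mem_span_singleton_self b
    exact (IsLocalRing.mem_maximalIdeal _).1 (Ideal.mul_mem_right d _ hbm) (h2 ▸ hu)

include hp in
/-- The Euler characteristic of the twisted line bundle. -/
theorem euler_inverse [IsAlgClosed k] (hd : topologicalKrullDim X ≤ 1) (hL : PicF.IsInvertible L)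
    (e : CohB1.tensorMod L (mI hp) ≅ Coh.structureModule X) :
    Curv2.euler k X L = Curv2.euler k X (Coh.structureModule X) + 1 := by
  haveI := Groth.L21.RR.isNoetherian_of_proper (X := X) k
  set I := Scheme.IdealSheafData.vanishingIdeal (⟨{p}, hp⟩ : Closeds X)
  have hI : topologicalKrullDim (I.support : Set X) ≤ 0 := by
    haveI : Subsingleton (I.support : Set X) := by
      rw [show (I.support : Set X) = {p} from Scheme.IdealSheafData.coe_support_vanishingIdeal _]
      exact Set.subsingleton_coe _ |>.2 Set.subsingleton_singleton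
    haveI : DiscreteTopology (I.support : Set X) := Subsingleton.discreteTopology
    exact topologicalKrullDim_zero_of_discreteTopology _
  have h1 := Groth.L21.RR.euler_twist I k hd hL hI
  have h2 := Groth.L21.RR.euler_add k hd (Groth.L21.RR.shortExact_idealSeq I) (Groth.L21.RR.isCoh_idealMod I)
      Groth.L16.CohClosedPush.isCoh_structure (Groth.L21.RR.isCoh_quotMod I)
  have h4 := Groth.L21.RR.euler_eq_h0_of_suppClosed k (Groth.L21.RR.suppClosed_quotMod I hI)
  have h5 : Curv2.euler k X (ClSub.idealMod I) = Curv2.euler k X (Coh.structureModule X) - 1 :=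
    Groth.L21.PointIdeal.euler_eq hp k hd
  have h3 := Groth.L21.RR.euler_congr k e
  dsimp only [Groth.L21.RR.idealSeq, ShortComplex.mk] at h2
  linarith

end Groth.L21.GenusOnePt
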